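import Cfsg.Agent.H637.JW
import Cfsg.Agent.FastGrp
import Cfsg.Agent.Prune
set_option linter.all false
prune_inst 0x7f00000000000000000000000000000000000000000000000000000000000000000000000000000000000000000000000000000000000000000000000000000000000000000000000000000000000000003fffffffffffffffffffffffffffbeffbdffffffff
open scoped Cfsg.Agent.FastGrp

/-!
# Dimensions of fixed spaces of `{2,3}`-groups (helper882)

Exact (integer) relations between the dimensions of fixed spaces, characteristic `≠ 2, 3`; application to a group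
containing the relations of `M₁₁`: a representation of dimension `11` has a nonzero fixed vector of the subgroup
`⟨a, b, y, e₁⟩` (`= L₂(11)`), and a nontrivial representation has dimension at least `8`.
-/

set_option autoImplicit false
set_option linter.unusedSectionVars false

namespace Cfsg.Agent.H882.Dim

open Module Cfsg.Agent.H637.JW

variable {K : Type*} [Field K] {V : Type*} [AddCommGroup V] [Module K V] [FiniteDimensional K V]

/-- Splitting by an idempotent. -/
theorem split (P : Module.End K V) (U A B : Submodule K V) (hU : ∀ v ∈ U, P v ∈ U) (hA : ∀ v ∈ U, P v ∈ A)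
    (hB : ∀ v ∈ U, v - P v ∈ B) (hAB : ∀ v ∈ U, v ∈ A → v ∈ B → v = 0) :
    finrank K (U ⊓ A : Submodule K V) + finrank K (U ⊓ B : Submodule K V) = finrank K U := by
  have h1 := Submodule.finrank_sup_add_finrank_inf_eq (U ⊓ A) (U ⊓ B)
  have h2 : (U ⊓ A) ⊓ (U ⊓ B) = ⊥ := by
    rw [eq_bot_iff]
    rintro v ⟨⟨hv, ha⟩, -, hb⟩
    exact hAB v hv ha hb
  have h3 : (U ⊓ A) ⊔ (U ⊓ B) = U := by
    apply le_antisymm (sup_le inf_le_left inf_le_left)
    intro v hv
    rw [← add_sub_cancel (P v) v]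
    exact Submodule.add_mem_sup ⟨hU v hv, hA v hv⟩ ⟨U.sub_mem hv (hU v hv), hB v hv⟩
  rw [h2, h3, finrank_bot] at h1
  omega

theorem le_of_inj (D : Module.End K V) (A B : Submodule K V) (h : ∀ v ∈ A, D v ∈ B) (hinj : ∀ v ∈ A, D v = 0 → v = 0) :
    finrank K A ≤ finrank K B := by
  let f : A →ₗ[K] B := D.restrict h
  refine LinearMap.finrank_le_finrank_of_injective (f := f) ?_
  rw [injective_iff_map_eq_zero]
  rintro ⟨v, hv⟩ h0
  exact Subtype.ext (hinj v hv (congrArg Subtype.val h0))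

variable {G : Type*} [Group G] (σ : G →* Module.End K V)

/-- The `-1`-space. -/
def An (g : G) : Submodule K V := (σ g).eigenspace (-1)

/-- The space where `g` has order three without fixed vectors. -/
def Om (g : G) : Submodule K V := LinearMap.ker (1 + σ g + σ (g * g))

variable {σ}

theorem mem_An {g : G} {v : V} : v ∈ An σ g ↔ σ g v = -v := by
  rw [An, Module.End.mem_eigenspace_iff, neg_one_smul]

theorem mem_Om {g : G} {v : V} : v ∈ Om σ g ↔ v + σ g v + σ g (σ g v) = 0 := by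
  rw [Om, LinearMap.mem_ker, map_mul]
  rfl

theorem act_one (v : V) : σ 1 v = v := by rw [map_one]; rfl

/-- Splitting by an involution. -/
theorem split_two (h2 : (2 : K) ≠ 0) {a : G} (ha : a * a = 1) (U : Submodule K V) (hU : ∀ v ∈ U, σ a v ∈ U) :
    finrank K (U ⊓ _root_.Cfsg.Agent.H637.JW.Fix σ a : Submodule K V) + finrank K (U ⊓ An σ a : Submodule K V) = finrank K U := by
  have haa : ∀ v, σ a (σ a v) = v := fun v => by rw [← mul_apply', ha, act_one]
  refine split ((2 : K)⁻¹ • (1 + σ a)) U _ _ (fun v hv => ?_) (fun v hv => ?_) (fun v hv => ?_) fun v _ h1 h3 => ?_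
  · exact U.smul_mem _ (U.add_mem hv (hU v hv))
  · rw [mem_Fix, LinearMap.smul_apply, map_smul, LinearMap.add_apply, Module.End.one_apply, map_add, haa, add_comm]
  · rw [mem_An, LinearMap.smul_apply, map_sub, map_smul, LinearMap.add_apply, Module.End.one_apply, map_add, haa]
    match_scalars <;> field_simp <;> ring
  · rw [mem_Fix] at h1
    rw [mem_An, h1] at h3
    have h4 : (2 : K) • v = 0 := by rw [two_smul]; nth_rewrite 1 [h3]; exact neg_add_cancel v
    exact (smul_eq_zero.1 h4).resolve_left h2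

/-- Splitting by an element of order three; the subspace is only assumed to be invariant under the projection. -/
theorem split_three (h3 : (3 : K) ≠ 0) {y : G} (hy : y * y * y = 1) (U : Submodule K V)
    (hU : ∀ v ∈ U, v + σ y v + σ y (σ y v) ∈ U) :
    finrank K (U ⊓ _root_.Cfsg.Agent.H637.JW.Fix σ y : Submodule K V) + finrank K (U ⊓ Om σ y : Submodule K V) = finrank K U := by
  have hyy : ∀ v, σ y (σ y (σ y v)) = v := fun v => by rw [← mul_apply', ← mul_apply', hy, act_one]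
  have key : ∀ v, ((3 : K)⁻¹ • (1 + σ y + σ (y * y)) : Module.End K V) v = (3 : K)⁻¹ • (v + σ y v + σ y (σ y v)) := by
    intro v
    rw [map_mul]
    rfl
  have h33 : ∀ v : V, v = (3 : K)⁻¹ • (v + v + v) := by
    intro v
    have : v + v + v = (3 : K) • v := by
      rw [show (3 : K) = 1 + 1 + 1 by norm_num, add_smul, add_smul, one_smul]
    rw [this, smul_smul, inv_mul_cancel₀ h3, one_smul]
  refine split ((3 : K)⁻¹ • (1 + σ y + σ (y * y))) U _ _ (fun v hv => ?_) (fun v hv => ?_) (fun v hv => ?_)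
    fun v _ h1 h4 => ?_
  · rw [key]
    exact U.smul_mem _ (hU v hv)
  · rw [key, mem_Fix, map_smul, map_add, map_add, hyy]
    congr 1
    abel
  · rw [key, mem_Om]
    simp only [map_sub, map_smul, map_add, hyy]
    have e : v - (3 : K)⁻¹ • (v + σ y v + σ y (σ y v)) + (σ y v - (3 : K)⁻¹ • (σ y v + σ y (σ y v) + v)) +
        (σ y (σ y v) - (3 : K)⁻¹ • (σ y (σ y v) + v + σ y v)) =
        (v - (3 : K)⁻¹ • (v + v + v)) + (σ y v - (3 : K)⁻¹ • (σ y v + σ y v + σ y v)) +
          (σ y (σ y v) - (3 : K)⁻¹ • (σ y (σ y v) + σ y (σ y v) + σ y (σ y v))) := by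
      simp only [smul_add]
      abel
    rw [e, ← h33, ← h33, ← h33, sub_self, sub_self, sub_self, add_zero, add_zero]
  · rw [mem_Fix] at h1
    rw [mem_Om, h1, h1] at h4
    rw [h33 v, h4, smul_zero]

/-- An operator anticommuting with an involution swaps its eigenspaces. -/
theorem half (h2 : (2 : K) ≠ 0) {a : G} (ha : a * a = 1) (U : Submodule K V) (hU : ∀ v ∈ U, σ a v ∈ U)
    (D : Module.End K V) (hD : ∀ v ∈ U, D v ∈ U) (hD0 : ∀ v ∈ U, D v = 0 → v = 0)
    (hanti : ∀ v ∈ U, σ a (D v) = - D (σ a v)) :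
    2 * finrank K (U ⊓ _root_.Cfsg.Agent.H637.JW.Fix σ a : Submodule K V) = finrank K U := by
  have h1 := split_two h2 ha U hU
  have h3 : finrank K (U ⊓ _root_.Cfsg.Agent.H637.JW.Fix σ a : Submodule K V) ≤ finrank K (U ⊓ An σ a : Submodule K V) := by
    refine le_of_inj D _ _ (fun v hv => ⟨hD v hv.1, mem_An.2 ?_⟩) fun v hv => hD0 v hv.1
    rw [hanti v hv.1, mem_Fix.1 hv.2]
  have h4 : finrank K (U ⊓ An σ a : Submodule K V) ≤ finrank K (U ⊓ _root_.Cfsg.Agent.H637.JW.Fix σ a : Submodule K V) := by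
    refine le_of_inj D _ _ (fun v hv => ⟨hD v hv.1, mem_Fix.2 ?_⟩) fun v hv => hD0 v hv.1
    rw [hanti v hv.1, mem_An.1 hv.2, map_neg, neg_neg]
  omega

/-- An involution inverting an element of order three acting without fixed vectors. -/
theorem half_three (h2 : (2 : K) ≠ 0) (h3 : (3 : K) ≠ 0) {a y : G} (ha : a * a = 1) (hay : a * y = y * y * a)
    (hy : y * y * y = 1) (U : Submodule K V) (hU : ∀ v ∈ U, σ a v ∈ U) (hy' : ∀ v ∈ U, σ y v ∈ U)
    (hO : ∀ v ∈ U, v ∈ Om σ y) : 2 * finrank K (U ⊓ _root_.Cfsg.Agent.H637.JW.Fix σ a : Submodule K V) = finrank K U := by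
  have hyy : ∀ v, σ y (σ y (σ y v)) = v := fun v => by rw [← mul_apply', ← mul_apply', hy, act_one]
  have h1 : ∀ v, σ a (σ y v) = σ y (σ y (σ a v)) := fun v => by
    rw [← mul_apply', hay, mul_apply', mul_apply']
  refine half h2 ha U hU (σ y - σ (y * y)) (fun v hv => ?_) (fun v hv h0 => ?_) fun v _ => ?_
  · rw [LinearMap.sub_apply, mul_apply']
    exact U.sub_mem (hy' v hv) (hy' _ (hy' v hv))
  · rw [LinearMap.sub_apply, mul_apply', sub_eq_zero] at h0
    have h4 := mem_Om.1 (hO v hv)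
    have h5 : σ y v = v := by
      have := congrArg (fun w => σ y (σ y w)) h0
      simp only [hyy] at this
      exact this.symm
    rw [h5, h5] at h4
    have h6 : (3 : K) • v = 0 := by
      rw [show (3 : K) = 1 + 1 + 1 by norm_num, add_smul, add_smul, one_smul, h4]
    exact (smul_eq_zero.1 h6).resolve_left h3
  · rw [LinearMap.sub_apply, LinearMap.sub_apply, mul_apply', mul_apply', map_sub, h1, h1, h1, hyy, neg_sub]

/-- four-groups -/
theorem klein (h2 : (2 : K) ≠ 0) {a b : G} (ha : a * a = 1) (hb : b * b = 1) (hab : a * b = b * a) {f : ℕ}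
    (fa : finrank K (Fix σ a) = f) (fb : finrank K (Fix σ b) = f) (fab : finrank K (Fix σ (a * b)) = f) :
    3 * f = 2 * finrank K (_root_.Cfsg.Agent.H637.JW.Fix σ a ⊓ _root_.Cfsg.Agent.H637.JW.Fix σ b : Submodule K V) + finrank K V := by
  have hc : ∀ v, σ a (σ b v) = σ b (σ a v) := fun v => by rw [← mul_apply', hab, mul_apply']
  have haa : ∀ v, σ a (σ a v) = v := fun v => by rw [← mul_apply', ha, act_one]
  have hbb : ∀ v, σ b (σ b v) = v := fun v => by rw [← mul_apply', hb, act_one]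
  have s1 := split_two h2 hb (_root_.Cfsg.Agent.H637.JW.Fix σ a) (fun v hv => by rw [mem_Fix] at hv ⊢; rw [hc, hv])
  have s2 := split_two h2 ha (_root_.Cfsg.Agent.H637.JW.Fix σ b) (fun v hv => by rw [mem_Fix] at hv ⊢; rw [← hc, hv])
  have s3 := split_two h2 ha (_root_.Cfsg.Agent.H637.JW.Fix σ (a * b)) (fun v hv => by
    rw [mem_Fix, mul_apply'] at hv ⊢
    rw [← hc, hv])
  have s4 := split_two h2 hb (An σ a) (fun v hv => by rw [mem_An] at hv ⊢; rw [hc, hv, map_neg])
  have s5 := split_two (σ := σ) h2 ha (⊤ : Submodule K V) (fun _ _ => trivial)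
  rw [top_inf_eq, top_inf_eq, finrank_top] at s5
  have e1 : _root_.Cfsg.Agent.H637.JW.Fix σ b ⊓ _root_.Cfsg.Agent.H637.JW.Fix σ a = _root_.Cfsg.Agent.H637.JW.Fix σ a ⊓ _root_.Cfsg.Agent.H637.JW.Fix σ b := inf_comm _ _
  have e2 : _root_.Cfsg.Agent.H637.JW.Fix σ (a * b) ⊓ _root_.Cfsg.Agent.H637.JW.Fix σ a = _root_.Cfsg.Agent.H637.JW.Fix σ a ⊓ _root_.Cfsg.Agent.H637.JW.Fix σ b := by
    ext v
    simp only [Submodule.mem_inf, mem_Fix, mul_apply']
    constructor
    · rintro ⟨h1, h3⟩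
      refine ⟨h3, ?_⟩
      rw [hc, h3] at h1
      exact h1
    · rintro ⟨h1, h3⟩
      exact ⟨by rw [h3, h1], h1⟩
  have e3 : _root_.Cfsg.Agent.H637.JW.Fix σ (a * b) ⊓ An σ a = An σ a ⊓ An σ b := by
    ext v
    simp only [Submodule.mem_inf, mem_Fix, mem_An, mul_apply']
    constructor
    · rintro ⟨h1, h3⟩
      refine ⟨h3, ?_⟩
      rw [hc, h3, map_neg] at h1
      exact neg_eq_iff_eq_neg.1 h1
    · rintro ⟨h1, h3⟩
      exact ⟨by rw [h3, map_neg, h1, neg_neg], h1⟩
  have e4 : _root_.Cfsg.Agent.H637.JW.Fix σ b ⊓ An σ a = An σ a ⊓ _root_.Cfsg.Agent.H637.JW.Fix σ b := inf_comm _ _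
  rw [e1, e4] at s2
  rw [e2, e3] at s3
  (clear * - fa fb fab s2 s3 s4 s5; omega)

theorem split_fix (h3 : (3 : K) ≠ 0) {x y : G} (hx : x * x * x = 1) (hxy : x * y = y * x) :
    finrank K (_root_.Cfsg.Agent.H637.JW.Fix σ y ⊓ _root_.Cfsg.Agent.H637.JW.Fix σ x : Submodule K V) + finrank K (_root_.Cfsg.Agent.H637.JW.Fix σ y ⊓ Om σ x : Submodule K V) =
      finrank K (Fix σ y) := by
  have hc : ∀ v, σ x (σ y v) = σ y (σ x v) := fun v => by rw [← mul_apply', hxy, mul_apply']
  refine split_three h3 hx (_root_.Cfsg.Agent.H637.JW.Fix σ y) (fun v hv => ?_)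
  rw [mem_Fix] at hv ⊢
  rw [map_add, map_add, ← hc, ← hc, ← hc, hv]

/-- `3 × 3`: the dimensions of the fixed spaces of the four lines. -/
theorem nine (h3 : (3 : K) ≠ 0) {x y : G} (hx : x * x * x = 1) (hy : y * y * y = 1) (hxy : x * y = y * x) {m : ℕ}
    (f1 : finrank K (Fix σ x) = m) (f2 : finrank K (Fix σ y) = m) (f3 : finrank K (Fix σ (x * y)) = m)
    (f4 : finrank K (Fix σ (x * x * y)) = m) :
    4 * m = 3 * finrank K (_root_.Cfsg.Agent.H637.JW.Fix σ x ⊓ _root_.Cfsg.Agent.H637.JW.Fix σ y : Submodule K V) + finrank K V := by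
  have hc : ∀ v, σ x (σ y v) = σ y (σ x v) := fun v => by rw [← mul_apply', hxy, mul_apply']
  have hxx : ∀ v, σ x (σ x (σ x v)) = v := fun v => by rw [← mul_apply', ← mul_apply', hx, act_one]
  have hyy : ∀ v, σ y (σ y (σ y v)) = v := fun v => by rw [← mul_apply', ← mul_apply', hy, act_one]
  -- invariance
  have i1 : ∀ v ∈ Om σ x, σ y v ∈ Om σ x := by
    intro v hv
    rw [mem_Om] at hv ⊢
    rw [hc, hc, ← map_add, ← map_add, hv, map_zero]
  have i2 : ∀ v ∈ Om σ y, σ x v ∈ Om σ y := by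
    intro v hv
    rw [mem_Om] at hv ⊢
    rw [← hc, ← hc, ← map_add, ← map_add, hv, map_zero]
  have i3 : ∀ v ∈ Om σ x, σ x v ∈ Om σ x := by
    intro v hv
    rw [mem_Om] at hv ⊢
    rw [← map_add, ← map_add, hv, map_zero]
  have i4 : ∀ v ∈ Om σ y, σ y v ∈ Om σ y := by
    intro v hv
    rw [mem_Om] at hv ⊢
    rw [← map_add, ← map_add, hv, map_zero]
  have s1 := split_three (σ := σ) h3 hx (⊤ : Submodule K V) (fun _ _ => trivial)
  rw [top_inf_eq, top_inf_eq, finrank_top] at s1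
  have s2 := split_three h3 hy (Om σ x) (fun v hv => Submodule.add_mem _ (Submodule.add_mem _ hv (i1 v hv))
    (i1 _ (i1 v hv)))
  have s3 := split_fix (σ := σ) h3 hx hxy
  have s4 := split_fix (σ := σ) h3 hx (y := x * y) (by rw [mul_assoc x y x, ← hxy])
  have s5 := split_fix (σ := σ) h3 hx (y := x * x * y) (by rw [mul_assoc (x * x) y x, ← hxy, mul_assoc, mul_assoc])
  have hxy3 : x * y * (x * y) * (x * y) = 1 := by
    calc x * y * (x * y) * (x * y) = x * (y * x) * y * (x * y) := by group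
      _ = x * x * (y * y * x) * y := by rw [← hxy]; group
      _ = x * x * x * (y * y * y) := by
        rw [mul_assoc y y x, ← hxy, ← mul_assoc y x y, ← hxy]
        group
      _ = 1 := by rw [hx, hy, one_mul]
  have s6 := split_three h3 hxy3 (Om σ x ⊓ Om σ y) (fun v hv => by
    have j : ∀ v ∈ Om σ x ⊓ Om σ y, σ (x * y) v ∈ Om σ x ⊓ Om σ y := fun v hv => by
      rw [mul_apply']
      exact ⟨i3 _ (i1 v hv.1), i2 _ (i4 v hv.2)⟩
    exact Submodule.add_mem _ (Submodule.add_mem _ hv (j v hv)) (j _ (j v hv)))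
  have e0 : _root_.Cfsg.Agent.H637.JW.Fix σ y ⊓ _root_.Cfsg.Agent.H637.JW.Fix σ x = _root_.Cfsg.Agent.H637.JW.Fix σ x ⊓ _root_.Cfsg.Agent.H637.JW.Fix σ y := inf_comm _ _
  have e1 : _root_.Cfsg.Agent.H637.JW.Fix σ (x * y) ⊓ _root_.Cfsg.Agent.H637.JW.Fix σ x = _root_.Cfsg.Agent.H637.JW.Fix σ x ⊓ _root_.Cfsg.Agent.H637.JW.Fix σ y := by
    ext v
    simp only [Submodule.mem_inf, mem_Fix, mul_apply']
    constructor
    · rintro ⟨h1, h4⟩
      rw [hc, h4] at h1
      exact ⟨h4, h1⟩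
    · rintro ⟨h1, h4⟩
      exact ⟨by rw [h4, h1], h1⟩
  have e2 : _root_.Cfsg.Agent.H637.JW.Fix σ (x * x * y) ⊓ _root_.Cfsg.Agent.H637.JW.Fix σ x = _root_.Cfsg.Agent.H637.JW.Fix σ x ⊓ _root_.Cfsg.Agent.H637.JW.Fix σ y := by
    ext v
    simp only [Submodule.mem_inf, mem_Fix, mul_apply']
    constructor
    · rintro ⟨h1, h4⟩
      rw [hc, hc, h4, h4] at h1
      exact ⟨h4, h1⟩
    · rintro ⟨h1, h4⟩
      exact ⟨by rw [h4, h1, h1], h1⟩
  have e3 : (Om σ x ⊓ Om σ y) ⊓ _root_.Cfsg.Agent.H637.JW.Fix σ (x * y) = _root_.Cfsg.Agent.H637.JW.Fix σ (x * y) ⊓ Om σ x := by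
    ext v
    simp only [Submodule.mem_inf, mem_Fix, mem_Om, mul_apply']
    constructor
    · rintro ⟨⟨h1, -⟩, h4⟩
      exact ⟨h4, h1⟩
    · rintro ⟨h1, h4⟩
      refine ⟨⟨h4, ?_⟩, h1⟩
      -- `y v = x² v`
      have h5 : σ y v = σ x (σ x v) := by
        conv_rhs => rw [← h1]
        rw [hxx]
      rw [h5, hc (σ x v) |>.symm, ← hc, h5, hxx, ← h4]
      abel
  have e4 : (Om σ x ⊓ Om σ y) ⊓ Om σ (x * y) = _root_.Cfsg.Agent.H637.JW.Fix σ (x * x * y) ⊓ Om σ x := by
    ext v
    simp only [Submodule.mem_inf, mem_Fix, mem_Om, mul_apply']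
    constructor
    · rintro ⟨⟨h1, h4⟩, h5⟩
      refine ⟨?_, h1⟩
      have q1 : σ x (σ x v) = -v - σ x v := by linear_combination (norm := module) h1
      have q2 : σ y (σ y v) = -v - σ y v := by linear_combination (norm := module) h4
      have q3 : σ x (σ x (σ y v)) = -σ y v - σ x (σ y v) := by
        rw [hc v, hc (σ x v), q1, map_sub, map_neg, ← hc v]
      have q4 : (2 : K) • v + σ x v + σ y v + (2 : K) • σ x (σ y v) = 0 := by
        rw [← hc (σ y v), q2, map_sub, map_neg, map_sub, map_neg, q1, q3] at h5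
        linear_combination (norm := module) h5
      have q5 := congrArg (σ x) q4
      rw [map_add, map_add, map_add, map_smul, map_smul, q1, q3, map_zero] at q5
      have q6 : (3 : K) • (σ x v - σ y v) = 0 := by
        linear_combination (norm := module) q4 + (2 : K) • q5
      have q7 := sub_eq_zero.1 ((smul_eq_zero.1 q6).resolve_left h3)
      rw [← q7, hxx]
    · rintro ⟨h1, h4⟩
      -- `y v = x v`
      have h5 : σ y v = σ x v := by
        conv_rhs => rw [← h1]
        rw [hxx]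
      refine ⟨⟨h4, ?_⟩, ?_⟩
      · rw [h5, ← hc, h5, h4]
      · rw [h5, ← hc (σ x v), ← hc v, h5, hxx, ← h4]
        abel
  rw [e0] at s3
  rw [e1] at s4
  rw [e2] at s5
  rw [e3, e4] at s6
  have e5 : _root_.Cfsg.Agent.H637.JW.Fix σ y ⊓ Om σ x = Om σ x ⊓ _root_.Cfsg.Agent.H637.JW.Fix σ y := inf_comm _ _
  rw [e5] at s3
  omega

end Cfsg.Agent.H882.Dim

private theorem dce_d40ca7987fea : _root_.True := by
  try have : _root_.True := by simp only [_root_.Cfsg.Agent.H882.Dim.An.eq_1]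
  try have : _root_.True := by simp only [_root_.Cfsg.Agent.H882.Dim.Om.eq_1]
  exact _root_.True.intro
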