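import Cfsg.Agent.SporadicA.GolayPerm
import Cfsg.Prelude.Def_Spor_Mathieu
import Cfsg.Agent.H882.Del.DimEl
import Cfsg.Agent.SporadicA.M11Comp
import Cfsg.Agent.S0387
import Cfsg.Agent.S0388
import Cfsg.Agent.S0383
import Cfsg.Agent.MTwelveType.SylowModel
import Cfsg.Agent.Prune
set_option linter.all false
prune_inst 0x7f00000000000000000000000000000000000000000000000000000000000000000000000000000000000000000000000000000000000000000000000000000000000000000000000000000000000000003fffffffffffffffffffffffffffbeffbdffffffff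
open scoped Cfsg.Agent.FastGrp

-- part: H882/Del/Tab
section
/-!
# Explicit elements of `M₁₁ ≤ M₁₂` (helper882)

Packed tables as in `SporadicA/GolayPerm`.
-/

set_option autoImplicit false

namespace Cfsg.Agent.H882.Tab

open Cfsg Cfsg.Agent.SporadicA.GolayBase Cfsg.Agent.SporadicA.GolayPerm
open scoped Pointwise

/-- The permutation `g` has the packed table `P`. -/
def IsT (g : Equiv.Perm GolayPt) (P : ℕ) : Prop := ∀ p : GolayPt, idx (g p) = papp P (idx p)

theorem IsT.mul {g h : Equiv.Perm GolayPt} {P Q : ℕ} (hg : IsT g P) (hh : IsT h Q) : IsT (g * h) (pcomp P Q) := by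
  intro p
  rw [papp_pcomp P Q (idx_lt p), ← hh p, ← hg]
  rfl

theorem IsT.eq {g h : Equiv.Perm GolayPt} {P Q : ℕ} (hg : IsT g P) (hh : IsT h Q) (e : Nat.beq P Q = true) : g = h := by
  apply Equiv.ext
  intro p
  apply idx_injective
  rw [hg, hh, Nat.eq_of_beq_eq_true e]

/-- The table of the identity. -/
def pone : ℕ := 984818244535754528103549039458486304

theorem isT_one : IsT 1 pone := by
  have h : ∀ p : GolayPt, idx p = papp pone (idx p) := by decide +kernel
  exact h

theorem squareDodecad_eq : Spor.squareDodecad = fin 340831 := by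
  have h : ∀ p : GolayPt, qrWord 0 p ≠ 0 ↔ (340831 : ℕ).testBit (idx p) = true := by decide +kernel
  ext p
  rw [mem_fin, ← h]
  unfold Spor.squareDodecad
  exact mem_support₂

/-- Whether `P` is the table of an element of `M₁₂`. -/
def ok12 (P : ℕ) : Bool := isPerm P && isAut P && Nat.beq (pimg P 340831) 340831

/-- Whether `P` is the table of an element of `M₁₁`. -/
def ok11 (P : ℕ) : Bool := ok12 P && Nat.beq (papp P 0) 0

theorem ok12_iff {P : ℕ} : ok12 P = true ↔ (isPerm P = true ∧ isAut P = true) ∧ pimg P 340831 = 340831 := by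
  unfold ok12
  rw [Bool.and_eq_true, Bool.and_eq_true, Nat.beq_eq]

theorem ok11_iff {P : ℕ} : ok11 P = true ↔ ok12 P = true ∧ papp P 0 = 0 := by
  unfold ok11
  rw [Bool.and_eq_true, Nat.beq_eq]

/-- The element of `M₁₂` with a given table. -/
noncomputable def mk12 (P : ℕ) (h : ok12 P = true) : Spor.M12 :=
  ⟨permOf P (ok12_iff.1 h).1.1, permOf_mem_M24 _ (ok12_iff.1 h).1.2, by
    show permOf P _ • Spor.squareDodecad = Spor.squareDodecad
    rw [squareDodecad_eq, smul_fin, (ok12_iff.1 h).2]⟩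

theorem isT_mk12 (P : ℕ) (h : ok12 P = true) : IsT (mk12 P h : Spor.M12) P := fun p => idx_permOf (ok12_iff.1 h).1.1 p

/-- The element of `M₁₁` with a given table. -/
noncomputable def mk11 (P : ℕ) (h : ok11 P = true) : Spor.M11 :=
  ⟨mk12 P (ok11_iff.1 h).1, (mk12 P (ok11_iff.1 h).1).2, by
    show (mk12 P (ok11_iff.1 h).1 : Equiv.Perm GolayPt) (some 0) = some 0
    apply idx_injective
    rw [isT_mk12]
    exact (ok11_iff.1 h).2⟩

theorem isT_mk11 (P : ℕ) (h : ok11 P = true) : IsT (mk11 P h : Spor.M11) P := fun p => isT_mk12 P (ok11_iff.1 h).1 p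

def tA : ℕ := 984642754306893001986305023279301696
def tB : ℕ := 970254902120350598020240965873371168
def tY : ℕ := 969077489916502254098451918490835040
def tX : ℕ := 969890181916314106754665209951006976
def tE : ℕ := 444255066258492725059224347437270304
def tS : ℕ := 309395026832966892341381945027152256
def tKA : ℕ := 320202802741280343566077546381881600
def tKX : ℕ := 649959366045810076664923100633546784
def tJ : ℕ := 984725144168464207694692636155920452
def tT : ℕ := 1795248432537898728475572672376535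
def tK3 : ℕ := 591420062262555869380016019057149350
def tK4 : ℕ := 309650488557874025792959714402910630
def tK5 : ℕ := 846006693608837152970871019869210130
def tK6 : ℕ := 313302025185078576546812869854113987

noncomputable def A : Spor.M11 := mk11 tA (by decide +kernel)
noncomputable def B : Spor.M11 := mk11 tB (by decide +kernel)
noncomputable def Y : Spor.M11 := mk11 tY (by decide +kernel)
noncomputable def X : Spor.M11 := mk11 tX (by decide +kernel)
noncomputable def E : Spor.M11 := mk11 tE (by decide +kernel)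
noncomputable def S : Spor.M11 := mk11 tS (by decide +kernel)
noncomputable def KA : Spor.M11 := mk11 tKA (by decide +kernel)
noncomputable def KX : Spor.M11 := mk11 tKX (by decide +kernel)
noncomputable def J : Spor.M12 := mk12 tJ (by decide +kernel)
noncomputable def K3 : Spor.M12 := mk12 tK3 (by decide +kernel)
noncomputable def K4 : Spor.M12 := mk12 tK4 (by decide +kernel)
noncomputable def K5 : Spor.M12 := mk12 tK5 (by decide +kernel)
noncomputable def K6 : Spor.M12 := mk12 tK6 (by decide +kernel)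

theorem iA : IsT A tA := isT_mk11 _ _
theorem iB : IsT B tB := isT_mk11 _ _
theorem iY : IsT Y tY := isT_mk11 _ _
theorem iX : IsT X tX := isT_mk11 _ _
theorem iE : IsT E tE := isT_mk11 _ _
theorem iS : IsT S tS := isT_mk11 _ _
theorem iKA : IsT KA tKA := isT_mk11 _ _
theorem iKX : IsT KX tKX := isT_mk11 _ _
theorem iJ : IsT J tJ := isT_mk12 _ _
theorem iK3 : IsT K3 tK3 := isT_mk12 _ _
theorem iK4 : IsT K4 tK4 := isT_mk12 _ _
theorem iK5 : IsT K5 tK5 := isT_mk12 _ _
theorem iK6 : IsT K6 tK6 := isT_mk12 _ _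
theorem iT : IsT projInv tT := by
  have h : ∀ p : GolayPt, idx (projInv p) = papp tT (idx p) := by decide +kernel
  exact h

theorem eq11 {g h : Spor.M11} {P Q : ℕ} (hg : IsT g P) (hh : IsT h Q) (e : Nat.beq P Q = true) : g = h :=
  Subtype.ext (IsT.eq hg hh e)

theorem m11 {g h : Spor.M11} {P Q : ℕ} (hg : IsT g P) (hh : IsT h Q) : IsT (g * h : Spor.M11) (pcomp P Q) :=
  IsT.mul hg hh

theorem one11 : IsT (1 : Spor.M11) pone := isT_one

theorem eq12 {g h : Spor.M12} {P Q : ℕ} (hg : IsT g P) (hh : IsT h Q) (e : Nat.beq P Q = true) : g = h :=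
  Subtype.ext (IsT.eq hg hh e)

theorem m12 {g h : Spor.M12} {P Q : ℕ} (hg : IsT g P) (hh : IsT h Q) : IsT (g * h : Spor.M12) (pcomp P Q) :=
  IsT.mul hg hh

theorem one12 : IsT (1 : Spor.M12) pone := isT_one

open Cfsg.Agent.H882.Dim

theorem rel : R11 A B Y X E S where
  haa := eq11 (m11 iA iA) one11 (by decide +kernel)
  hbb := eq11 (m11 iB iB) one11 (by decide +kernel)
  hab := eq11 (m11 iA iB) (m11 iB iA) (by decide +kernel)
  hy := eq11 (m11 (m11 iY iY) iY) one11 (by decide +kernel)
  hya := eq11 (m11 iY iA) (m11 iB iY) (by decide +kernel)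
  hyb := eq11 (m11 iY iB) (m11 (m11 iA iB) iY) (by decide +kernel)
  hx := eq11 (m11 (m11 iX iX) iX) one11 (by decide +kernel)
  hax := eq11 (m11 iA iX) (m11 iX iA) (by decide +kernel)
  hbx := eq11 (m11 iB iX) (m11 (m11 iX iX) iB) (by decide +kernel)
  he := eq11 (m11 (m11 iE iE) iE) one11 (by decide +kernel)
  hxe := eq11 (m11 iX iE) (m11 iE iX) (by decide +kernel)
  hae := eq11 (m11 iA iE) (m11 (m11 iE iE) iA) (by decide +kernel)
  hzz := eq11 (m11 (m11 (m11 iS iS) (m11 iS iS)) (m11 (m11 iS iS) (m11 iS iS))) one11 (by decide +kernel)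
  haz := eq11 (m11 iA (m11 (m11 iS iS) (m11 iS iS))) (m11 (m11 (m11 iS iS) (m11 iS iS)) iA) (by decide +kernel)
  hat := eq11 (m11 iA (m11 iS iS)) (m11 (m11 (m11 (m11 iS iS) (m11 iS iS)) (m11 iS iS)) iA) (by decide +kernel)
  hsx := eq11 (m11 iS iX) (m11 (m11 iX iE) iS) (by decide +kernel)
  hse := eq11 (m11 iS iE) (m11 (m11 (m11 iX iX) iE) iS) (by decide +kernel)
  htx := eq11 (m11 (m11 iS iS) iX) (m11 (m11 iE iE) (m11 iS iS)) (by decide +kernel)
  hte := eq11 (m11 (m11 iS iS) iE) (m11 iX (m11 iS iS)) (by decide +kernel)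
  hzx := eq11 (m11 (m11 (m11 iS iS) (m11 iS iS)) iX) (m11 (m11 iX iX) (m11 (m11 iS iS) (m11 iS iS))) (by decide +kernel)
  hze := eq11 (m11 (m11 (m11 iS iS) (m11 iS iS)) iE) (m11 (m11 iE iE) (m11 (m11 iS iS) (m11 iS iS))) (by decide +kernel)
  hca := isConj_iff.2 ⟨KA, conj_eq (eq11 (m11 iKA iA) (m11 (m11 (m11 iS iS) (m11 iS iS)) iKA) (by decide +kernel))⟩
  hcx := isConj_iff.2 ⟨KX, conj_eq (eq11 (m11 iKX iX) (m11 iY iKX) (by decide +kernel))⟩

end Cfsg.Agent.H882.Tab
end

-- part: H882/Del/M11Grp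
section
/-!
# The groups `M₁₁ ≤ M₁₂` and `L₂(11) ≤ M₁₁` (helper882)
-/

set_option autoImplicit false

namespace Cfsg.Agent.H882.Grp

open Cfsg Cfsg.Agent.SporadicA.GolayBase Cfsg.Agent.SporadicA.GolayPerm Cfsg.Agent.H882.Tab
open scoped Pointwise

theorem squareDodecad_mem : Cfsg.Spor.squareDodecad ∈ Cfsg.dodecads := Cfsg.Agent.SporadicA.M11Comp.sqD_mem_dodecads

theorem zero_mem : (some 0 : GolayPt) ∈ Cfsg.Spor.squareDodecad := by decide +kernel

/-- The two descriptions of `M₁₁`. -/
def equiv11 : ↥(MulAction.stabilizer Cfsg.M24 Cfsg.Spor.squareDodecad ⊓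
    MulAction.stabilizer Cfsg.M24 (some 0 : GolayPt)) ≃* Cfsg.Spor.M11 where
  toFun g := ⟨((g : Cfsg.M24) : Equiv.Perm GolayPt), ⟨(g : Cfsg.M24).2, g.2.1⟩, g.2.2⟩
  invFun g := ⟨⟨(g : Equiv.Perm GolayPt), g.2.1.1⟩, g.2.1.2, g.2.2⟩
  left_inv _ := rfl
  right_inv _ := rfl
  map_mul' _ _ := rfl

/-- The two descriptions of `M₁₂`. -/
def equiv12 : ↥(MulAction.stabilizer Cfsg.M24 Cfsg.Spor.squareDodecad) ≃* Cfsg.Spor.M12 where
  toFun g := ⟨((g : Cfsg.M24) : Equiv.Perm GolayPt), (g : Cfsg.M24).2, g.2⟩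
  invFun g := ⟨⟨(g : Equiv.Perm GolayPt), g.2.1⟩, g.2.2⟩
  left_inv _ := rfl
  right_inv _ := rfl
  map_mul' _ _ := rfl

theorem simple11 : IsSimpleGroup Spor.M11 :=
  equiv11.isSimpleGroup_congr.1 (Cfsg.Agent.S0388.result _ squareDodecad_mem _ zero_mem)

theorem card11 : Nat.card Spor.M11 = 7920 := by
  rw [← Nat.card_congr equiv11.toEquiv]
  exact Cfsg.Agent.S0387.result _ squareDodecad_mem _ zero_mem

theorem simple12 : IsSimpleGroup Spor.M12 :=
  equiv12.isSimpleGroup_congr.1 (Cfsg.Agent.S0383.result _ squareDodecad_mem)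

theorem card12 : Nat.card Spor.M12 = 95040 := Cfsg.Agent.MTwelveType.SylowModel.card_M12

/-- A simple group with an element of order `11`: proper subgroups of index dividing `12` have index `12`. -/
theorem index_twelve {G : Type*} [Group G] [Finite G] [IsSimpleGroup G] (h11 : 11 ∣ Nat.card G) {K : Subgroup G}
    (hK : K.index ∣ 12) (hne : K ≠ ⊤) : K.index = 12 := by
  by_contra h12
  have h0 : K.index ≠ 0 := Subgroup.index_ne_zero_of_finite
  have hle : K.index ≤ 6 := by
    obtain ⟨k, hk⟩ := hK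
    have : k ≠ 1 := by rintro rfl; omega
    have hk0 : k ≠ 0 := by rintro rfl; omega
    have : 2 ≤ k := by omega
    nlinarith
  -- the action on the cosets is faithful
  have hker : (MulAction.toPermHom G (G ⧸ K)).ker = ⊥ := by
    rcases (inferInstance : ((MulAction.toPermHom G (G ⧸ K)).ker).Normal).eq_bot_or_eq_top with h | h
    · exact h
    · exfalso
      apply hne
      rw [eq_top_iff]
      intro g _
      have h1 : g ∈ (MulAction.toPermHom G (G ⧸ K)).ker := by rw [h]; trivial
      have h2 := Equiv.congr_fun (MonoidHom.mem_ker.1 h1) ((1 : G) : G ⧸ K)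
      have h3 : ((g * 1 : G) : G ⧸ K) = ((1 : G) : G ⧸ K) := h2
      rw [mul_one] at h3
      simpa using QuotientGroup.eq.1 h3.symm
  have hinj : Function.Injective (MulAction.toPermHom G (G ⧸ K)) := (MonoidHom.ker_eq_bot_iff _).1 hker
  have hd : Nat.card G ∣ Nat.card (Equiv.Perm (G ⧸ K)) := Subgroup.card_dvd_of_injective _ hinj
  rw [Nat.card_perm] at hd
  have h1 : 11 ∣ (Nat.card (G ⧸ K)).factorial := h11.trans hd
  rw [(by norm_num : Nat.Prime 11).dvd_factorial] at h1
  have : Nat.card (G ⧸ K) = K.index := rfl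
  omega

/-- The stabiliser of the extra point. -/
def L0 : Subgroup Spor.M11 where
  carrier := {g | (g : Equiv.Perm GolayPt) none = none}
  one_mem' := rfl
  mul_mem' := by
    intro a b ha hb
    change (a : Equiv.Perm GolayPt) ((b : Equiv.Perm GolayPt) none) = none
    have ha' : (a : Equiv.Perm GolayPt) none = none := ha
    have hb' : (b : Equiv.Perm GolayPt) none = none := hb
    rw [hb', ha']
  inv_mem' := by
    intro a ha
    have ha' : (a : Equiv.Perm GolayPt) none = none := ha
    change (a : Equiv.Perm GolayPt)⁻¹ none = none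
    rw [Equiv.Perm.inv_eq_iff_eq, ha']

theorem mem_L0 {g : Spor.M11} : g ∈ L0 ↔ (g : Equiv.Perm GolayPt) none = none := Iff.rfl

theorem mem_K_iff {g : Equiv.Perm GolayPt} : g ∈ SporadicA.M11Comp.K ↔ g ∈ Spor.M11 := by
  have h0 : ∀ g : Equiv.Perm GolayPt, g ∈ MulAction.stabilizer (Equiv.Perm GolayPt) Spor.squareDodecad ↔
      ∀ x ∈ SporadicA.M11Comp.sqD, g x ∈ SporadicA.M11Comp.sqD := by
    intro g
    rw [MulAction.mem_stabilizer_finset']
    rfl
  constructor
  · rintro ⟨h1, h2, h3⟩
    exact ⟨⟨h1, (h0 g).2 h2⟩, h3⟩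
  · rintro ⟨⟨h1, h2⟩, h3⟩
    exact ⟨h1, (h0 g).1 h2, h3⟩

/-- The complementary dodecad -/
abbrev Pt : Type := {p : GolayPt // qrWord 0 p = 0}

theorem not_mem_iff (p : GolayPt) : p ∉ SporadicA.M11Comp.sqD ↔ qrWord 0 p = 0 := by
  rw [SporadicA.M11Comp.mem_sqD, not_not]

theorem card_Pt : Nat.card Pt = 12 := by
  rw [Nat.card_eq_fintype_card]
  decide +kernel

theorem apply_mem (g : Spor.M11) {p : GolayPt} : qrWord 0 ((g : Equiv.Perm GolayPt) p) = 0 ↔ qrWord 0 p = 0 := by
  rw [← not_mem_iff, ← not_mem_iff]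
  exact SporadicA.M11Comp.K_apply_mem (mem_K_iff.2 g.2) p

/-- The cosets of `L0` are the points of the complementary dodecad. -/
noncomputable def toPt : Spor.M11 ⧸ L0 → Pt :=
  Quotient.lift (fun g : Spor.M11 => (⟨(g : Equiv.Perm GolayPt) none, (apply_mem g).2 (by decide +kernel)⟩ : Pt))
    (by
      intro a b hab
      have h1 : a⁻¹ * b ∈ L0 := QuotientGroup.leftRel_apply.1 hab
      apply Subtype.ext
      have h2 : (a : Equiv.Perm GolayPt)⁻¹ ((b : Equiv.Perm GolayPt) none) = none := h1
      rw [Equiv.Perm.inv_eq_iff_eq] at h2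
      exact h2.symm)

theorem toPt_bijective : Function.Bijective toPt := by
  constructor
  · intro i j hij
    induction i using QuotientGroup.induction_on with
    | H g =>
      induction j using QuotientGroup.induction_on with
      | H h =>
        have h1 : (g : Equiv.Perm GolayPt) none = (h : Equiv.Perm GolayPt) none := congrArg Subtype.val hij
        refine QuotientGroup.eq.2 ?_
        change (g : Equiv.Perm GolayPt)⁻¹ ((h : Equiv.Perm GolayPt) none) = none
        rw [Equiv.Perm.inv_eq_iff_eq, h1]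
  · rintro ⟨p, hp⟩
    obtain ⟨g, hg, h⟩ := SporadicA.M11Comp.step1 p ((not_mem_iff p).2 hp)
    exact ⟨((⟨g, mem_K_iff.1 hg⟩ : Spor.M11) : Spor.M11 ⧸ L0), Subtype.ext h⟩

noncomputable def ePt : Spor.M11 ⧸ L0 ≃ Pt := Equiv.ofBijective toPt toPt_bijective

theorem index_L0 : L0.index = 12 := by
  rw [Subgroup.index, Nat.card_congr ePt, card_Pt]

theorem card_L0 : Nat.card L0 = 660 := by
  have h := L0.card_mul_index
  rw [index_L0, card11] at h
  omega

theorem isT_pow {g : Spor.M11} {P : ℕ} (h : IsT g P) (n : ℕ) : IsT (g ^ n : Spor.M11) ((pcomp P)^[n] pone) := by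
  induction n with
  | zero => exact one11
  | succ n ih =>
    rw [pow_succ', Function.iterate_succ_apply']
    exact m11 h ih

theorem ne_of_isT {g h : Equiv.Perm GolayPt} {P Q : ℕ} (hg : IsT g P) (hh : IsT h Q) (i : ℕ) (hi : i < 24)
    (e : Nat.beq (papp P i) (papp Q i) = false) : g ≠ h := by
  intro h0
  have h1 := hg (pt i)
  rw [h0, hh, idx_pt hi] at h1
  rw [h1] at e
  simp at e

theorem order11 {g : Spor.M11} {P r : ℕ} (h : IsT g P) (hr : r.Prime) (e : Nat.beq ((pcomp P)^[r] pone) pone = true)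
    (i : ℕ) (hi : i < 24) (e' : Nat.beq (papp P i) (papp pone i) = false) : orderOf g = r := by
  have h1 : g ^ r = 1 := eq11 (isT_pow h r) one11 e
  refine ((Nat.dvd_prime hr).1 (orderOf_dvd_of_pow_eq_one h1)).resolve_left fun h2 => ?_
  rw [orderOf_eq_one_iff] at h2
  exact ne_of_isT h one11 i hi e' (congrArg Subtype.val h2)

theorem order_X : orderOf X = 3 := order11 iX (by norm_num) (by decide +kernel) 1 (by norm_num) (by decide +kernel)

theorem order_XY : orderOf (X * Y) = 11 :=
  order11 (m11 iX iY) (by norm_num) (by decide +kernel) 1 (by norm_num) (by decide +kernel)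

theorem order_AXY : orderOf (A * X * Y) = 5 :=
  order11 (m11 (m11 iA iX) iY) (by norm_num) (by decide +kernel) 1 (by norm_num) (by decide +kernel)

/-- Two distinct commuting involutions of `H` generate a four-group, so `4 ∣ |H|`. -/
theorem four_dvd {G : Type*} [Group G] [Finite G] {H : Subgroup G} {u h : G} (huH : u ∈ H) (hhH : h ∈ H) (hu2 : u * u = 1)
    (hh2 : h * h = 1) (hu1 : u ≠ 1) (hh1 : h ≠ 1) (hne : u ≠ h) (hc : u * h = h * u) : 4 ∣ Nat.card H := by
  let V : Subgroup G :=
    { carrier := {1, u, h, u * h}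
      one_mem' := by simp
      mul_mem' := by
        have e1 : u * (u * h) = h := by rw [← mul_assoc, hu2, one_mul]
        have e2 : h * (u * h) = u := by rw [hc, ← mul_assoc, hh2, one_mul]
        have e3 : u * h * u = h := by rw [mul_assoc, ← hc, e1]
        have e4 : u * h * h = u := by rw [mul_assoc, hh2, mul_one]
        have e5 : u * h * (u * h) = 1 := by rw [mul_assoc, e2, hu2]
        rintro a b (rfl | rfl | rfl | rfl) (rfl | rfl | rfl | rfl) <;>
          simp only [Set.mem_insert_iff, Set.mem_singleton_iff, one_mul, mul_one, hu2, hh2, e1, e2, e3, e4, e5,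
            true_or, or_true]
        rw [hc]
        simp only [_root_.mul_eq_right, _root_.mul_eq_left, _root_.or_true]
      inv_mem' := by
        have e1 : u⁻¹ = u := inv_eq_of_mul_eq_one_left hu2
        have e2 : h⁻¹ = h := inv_eq_of_mul_eq_one_left hh2
        rintro a (rfl | rfl | rfl | rfl) <;>
          simp only [Set.mem_insert_iff, Set.mem_singleton_iff, inv_one, mul_inv_rev, e1, e2, true_or, or_true]
        rw [← hc]
        simp }
  have hV : V ≤ H := by
    rintro x (rfl | rfl | rfl | rfl)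
    · exact H.one_mem
    · exact huH
    · exact hhH
    · exact H.mul_mem huH hhH
  have hcard : Nat.card V = 4 := by
    change Nat.card ({1, u, h, u * h} : Set G) = 4
    have h1 : u * h ≠ 1 := fun h0 => hne (by rw [eq_inv_of_mul_eq_one_left h0, inv_eq_of_mul_eq_one_left hh2])
    have h2 : u ≠ u * h := fun h0 => hh1 (by simpa using h0.symm)
    have h3 : h ≠ u * h := fun h0 => hu1 (by simpa using h0.symm)
    change ({1, u, h, u * h} : Set G).ncard = 4
    rw [Set.ncard_insert_of_notMem, Set.ncard_insert_of_notMem, Set.ncard_pair h3]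
    · rintro (h0 | h0)
      · exact hne h0
      · exact h2 h0
    · rintro (h0 | h0 | h0)
      · exact hu1 h0.symm
      · exact hh1 h0.symm
      · exact h1 h0.symm
  rw [← hcard]
  exact Subgroup.card_dvd_of_le hV

/-- `A, B, Y, X` generate `L0`. -/
theorem L0_le {T : Subgroup Spor.M11} (hA : A ∈ T) (hB : B ∈ T) (hY : Y ∈ T) (hX : X ∈ T) : L0 ≤ T := by
  have hfin : Finite Spor.M11 := Nat.finite_of_card_ne_zero (by rw [card11]; norm_num)
  have hA0 : A ∈ L0 := idx_injective ((iA none).trans (by decide +kernel))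
  have hB0 : B ∈ L0 := idx_injective ((iB none).trans (by decide +kernel))
  have hY0 : Y ∈ L0 := idx_injective ((iY none).trans (by decide +kernel))
  have hX0 : X ∈ L0 := idx_injective ((iX none).trans (by decide +kernel))
  have d3 : 3 ∣ Nat.card (T ⊓ L0 : Subgroup Spor.M11) := by
    rw [← order_X]
    exact Subgroup.orderOf_dvd_natCard _ ⟨hX, hX0⟩
  have d11 : 11 ∣ Nat.card (T ⊓ L0 : Subgroup Spor.M11) := by
    rw [← order_XY]
    exact Subgroup.orderOf_dvd_natCard _ ⟨T.mul_mem hX hY, L0.mul_mem hX0 hY0⟩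
  have d5 : 5 ∣ Nat.card (T ⊓ L0 : Subgroup Spor.M11) := by
    rw [← order_AXY]
    exact Subgroup.orderOf_dvd_natCard _ ⟨T.mul_mem (T.mul_mem hA hX) hY, L0.mul_mem (L0.mul_mem hA0 hX0) hY0⟩
  have d4 : 4 ∣ Nat.card (T ⊓ L0 : Subgroup Spor.M11) := by
    refine four_dvd (u := A) (h := B) ⟨hA, hA0⟩ ⟨hB, hB0⟩ rel.haa rel.hbb ?_ ?_ ?_ rel.hab
    · exact fun h => ne_of_isT iA one11 1 (by norm_num) (by decide +kernel) (congrArg Subtype.val h)
    · exact fun h => ne_of_isT iB one11 4 (by norm_num) (by decide +kernel) (congrArg Subtype.val h)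
    · exact fun h => ne_of_isT iA iB 1 (by norm_num) (by decide +kernel) (congrArg Subtype.val h)
  have hd : 660 ∣ Nat.card (T ⊓ L0 : Subgroup Spor.M11) := by (solve | lia | omega)
  have hle : Nat.card (T ⊓ L0 : Subgroup Spor.M11) ∣ Nat.card L0 := Subgroup.card_dvd_of_le inf_le_right
  rw [card_L0] at hle
  have he : Nat.card (T ⊓ L0 : Subgroup Spor.M11) = Nat.card L0 := by
    rw [card_L0]
    exact Nat.dvd_antisymm hle hd
  have := Subgroup.eq_of_le_of_card_ge (inf_le_right : T ⊓ L0 ≤ L0) he.ge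
  rw [← this]
  exact inf_le_left

end Cfsg.Agent.H882.Grp
end
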