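import Cfsg.Agent.H114.TyTwo_m3
import Cfsg.Agent.H906.Cover_m3
import Cfsg.Agent.H464.L2StageOne_m3
import Cfsg.Agent.ClassicalGeometry.PSL2Basic
import Cfsg.Agent.FastGrp
import Cfsg.Agent.Prune
set_option linter.all false

section
prune_inst 0x7f00000000000000000000000000000000000000000000000000000000000000000000000000000000000000000000000000000000000000000000000000000000000000000000000000000000000000003fffffffffffffffffffffffffffbeffbdffffffff

-- part: H882/Del/Mat
section
set_option linter.all false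
open scoped Cfsg.Agent.FastGrp

-- part: H882/Del/Orbit
section
/-!
# Deleted permutation modules from fixed vectors

`P ≤ GL(V)` irreducible, `K ≤ P` of index `dim V + 1` fixing a vector `v0 ≠ 0`.

* `exists_sys` : the images of `v0` form a `Sys`;
* `mem_SG_of_lines` : an isometry permuting the lines `⟨v i⟩` is in `SG`;
* `dc_of_prime` : `K` contains an element of prime order `|P : K| - 1` : then `P = K ∪ K g K`;
* `main` : `H` maximal in `E Q`, normalising `P`, `h v0 ∈ F (P v0)` for `h ∈ H`: then `P ≃ Alt (dim V + 1)`.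
-/

set_option autoImplicit false
set_option linter.unusedSectionVars false

namespace Cfsg.Agent.H882.Del

open QuadraticMap hiding proj
open Cfsg.Agent.LieClassical.OrthCore Cfsg.Agent.LieClassical.OrthTrans Cfsg.Agent.LieClassical.OrthFinite
open Cfsg.Agent.H882.Ten
open scoped commutatorElement

variable {F : Type*} [Field F] {V : Type*} [AddCommGroup V] [Module F V]

/-- Irreducible. -/
def Irr (P : Subgroup (V ≃ₗ[F] V)) : Prop :=
  ∀ W : Submodule F V, (∀ g ∈ P, ∀ w ∈ W, g w ∈ W) → W = ⊥ ∨ W = ⊤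

section orbit

variable {P : Subgroup (V ≃ₗ[F] V)} {K : Subgroup P} {v0 : V}

/-- The images of `v0`. -/
noncomputable def orb (P : Subgroup (V ≃ₗ[F] V)) (K : Subgroup P) (v0 : V) (i : P ⧸ K) : V :=
  ((i.out : P) : V ≃ₗ[F] V) v0

theorem orb_mk (hfix : ∀ k ∈ K, (k : V ≃ₗ[F] V) v0 = v0) (g : P) :
    orb P K v0 (g : P ⧸ K) = (g : V ≃ₗ[F] V) v0 := by
  obtain ⟨k, hk⟩ := QuotientGroup.mk_out_eq_mul K g
  unfold orb
  rw [hk]
  change (g : V ≃ₗ[F] V) (((k : P) : V ≃ₗ[F] V) v0) = _
  rw [hfix k k.2]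

theorem orb_smul (hfix : ∀ k ∈ K, (k : V ≃ₗ[F] V) v0 = v0) (g : P) (i : P ⧸ K) :
    (g : V ≃ₗ[F] V) (orb P K v0 i) = orb P K v0 (g • i) := by
  induction i using QuotientGroup.induction_on with
  | H h => rw [orb_mk hfix, MulAction.Quotient.smul_mk, orb_mk hfix]; rfl

theorem sys_orb [Fintype (P ⧸ K)] (hirr : Irr P) (hK : K.index = Module.finrank F V + 1) (h2 : 2 ≤ Module.finrank F V)
    (h0 : v0 ≠ 0) (hfix : ∀ k ∈ K, (k : V ≃ₗ[F] V) v0 = v0) : Sys F (orb P K v0) where
  span := by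
    rcases hirr (Submodule.span F (Set.range (orb P K v0))) (by
      intro g hg w hw
      induction hw using Submodule.span_induction with
      | mem w hw =>
        obtain ⟨i, rfl⟩ := hw
        rw [orb_smul hfix ⟨g, hg⟩ i]
        exact Submodule.subset_span ⟨_, rfl⟩
      | zero => rw [map_zero]; exact Submodule.zero_mem _
      | add a b _ _ ha hb => rw [map_add]; exact Submodule.add_mem _ ha hb
      | smul c a _ ha => rw [map_smul]; exact Submodule.smul_mem _ _ ha) with h | h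
    · exfalso
      apply h0
      have h1 : orb P K v0 ((1 : P) : P ⧸ K) ∈ Submodule.span F (Set.range (orb P K v0)) :=
        Submodule.subset_span ⟨_, rfl⟩
      rw [h, Submodule.mem_bot, orb_mk hfix] at h1
      exact h1
    · exact h
  card := by
    rw [← hK, Subgroup.index, Nat.card_eq_fintype_card]
  pos := by omega
  sum := by
    have hs : ∀ g ∈ P, g (∑ i, orb P K v0 i) = ∑ i, orb P K v0 i := by
      intro g hg
      rw [map_sum]
      exact (Equiv.sum_comp (MulAction.toPerm (⟨g, hg⟩ : P) : Equiv.Perm (P ⧸ K)) (orb P K v0)).symm ▸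
        Finset.sum_congr rfl fun i _ => orb_smul hfix ⟨g, hg⟩ i
    have hfin : Module.Finite F V := Module.finite_of_finrank_pos (by omega)
    rcases hirr (Submodule.span F {∑ i, orb P K v0 i}) (by
      intro g hg w hw
      obtain ⟨c, rfl⟩ := Submodule.mem_span_singleton.1 hw
      rw [map_smul, hs g hg]
      exact Submodule.smul_mem _ _ (Submodule.mem_span_singleton_self _)) with h | h
    · exact Submodule.span_singleton_eq_bot.1 h
    · exfalso
      have h1 := finrank_span_le_card (R := F) ({∑ i, orb P K v0 i} : Set V)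
      rw [h, finrank_top] at h1
      simp at h1
      omega

theorem gr_orb {Q : QuadraticForm F V} (hPO : P ≤ O Q) (hfix : ∀ k ∈ K, (k : V ≃ₗ[F] V) v0 = v0)
    (hdc : ∀ g ∉ K, ∀ g' ∉ K, ∃ k ∈ K, ∃ k' ∈ K, g' = k * g * k') :
    ∃ a : F, Gr Q (orb P K v0) a := by
  by_cases hK : ∃ g1 : P, g1 ∉ K
  · obtain ⟨g1, hg1⟩ := hK
    refine ⟨polar Q v0 ((g1 : V ≃ₗ[F] V) v0), fun i j hij => ?_⟩
    induction i using QuotientGroup.induction_on with
    | H g =>
      induction j using QuotientGroup.induction_on with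
      | H h =>
        rw [orb_mk hfix, orb_mk hfix]
        have h1 : g⁻¹ * h ∉ K := fun hc => hij (QuotientGroup.eq.2 hc)
        obtain ⟨k, hk, k', hk', e⟩ := hdc g1 hg1 _ h1
        have h2 : (h : V ≃ₗ[F] V) v0 = (g : V ≃ₗ[F] V) ((k : V ≃ₗ[F] V) ((g1 : V ≃ₗ[F] V) v0)) := by
          have e2 : h = g * (k * g1 * k') := by rw [← e, mul_inv_cancel_left]
          rw [e2]
          change (g : V ≃ₗ[F] V) ((k : V ≃ₗ[F] V) ((g1 : V ≃ₗ[F] V) ((k' : V ≃ₗ[F] V) v0))) = _
          rw [hfix k' hk']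
        rw [h2, polar_map (hPO g.2)]
        have h3 := polar_map (Q := Q) (hPO k.2) v0 ((g1 : V ≃ₗ[F] V) v0)
        rw [hfix k hk] at h3
        exact h3
  · push Not at hK
    refine ⟨0, fun i j hij => absurd ?_ hij⟩
    induction i using QuotientGroup.induction_on with
    | H g =>
      induction j using QuotientGroup.induction_on with
      | H h => exact QuotientGroup.eq.2 (hK _)

end orbit

/-- An isometry permuting the lines `⟨v i⟩` belongs to `SG`. -/
theorem mem_SG_of_lines {ι : Type*} [Fintype ι] [DecidableEq ι] {v : ι → V} {Q : QuadraticForm F V} {a : F}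
    (S : Sys F v) (hg : Gr Q v a) (ha : a ≠ 0) (h3 : 3 ≤ Fintype.card ι) {h : V ≃ₗ[F] V} (hh : h ∈ O Q)
    (hl : ∀ i, ∃ j, ∃ c : F, h (v i) = c • v j) : h ∈ SG F v := by
  choose s c hsc using hl
  have hc0 : ∀ i, c i ≠ 0 := by
    intro i h0
    have h1 := hsc i
    rw [h0, zero_smul] at h1
    exact S.ne_zero i (h.map_eq_zero_iff.1 h1)
  have hinj : Function.Injective s := by
    intro i j hij
    have h1 : h (c j • v i) = h (c i • v j) := by
      rw [map_smul, map_smul, hsc, hsc, hij, smul_smul, smul_smul, mul_comm]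
    exact (S.eq_of_smul h3 (h.injective h1)).2 (hc0 j)
  let σ : Equiv.Perm ι := Equiv.ofBijective s (Finite.injective_iff_bijective.1 hinj)
  have hσ : ∀ i, σ i = s i := fun i => rfl
  have hsum : ∑ j, c (σ.symm j) • v j = 0 := by
    have h1 : ∑ i, c i • v (σ i) = 0 := by
      have h2 : h (∑ i, v i) = ∑ i, c i • v (σ i) := by
        rw [map_sum]
        exact Finset.sum_congr rfl fun i _ => hsc i
      rw [← h2, S.sum, map_zero]
    rw [← h1, ← Equiv.sum_comp σ]
    exact Finset.sum_congr rfl fun i _ => by rw [σ.symm_apply_apply]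
  have hconst : ∀ i j, c i = c j := by
    intro i j
    have := S.rel hsum (σ i) (σ j)
    rwa [σ.symm_apply_apply, σ.symm_apply_apply] at this
  obtain ⟨i, j, hij⟩ := S.exists_two
  have hcc : c i * c i = 1 := by
    have h1 := polar_map hh (v i) (v j)
    rw [hsc, hsc, hconst j i, QuadraticMap.polar_smul_left, QuadraticMap.polar_smul_right, smul_eq_mul, smul_eq_mul,
      hg i j hij, hg _ _ (fun h => hij (hinj h))] at h1
    have h2 : (c i * c i - 1) * a = 0 := by linear_combination h1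
    exact sub_eq_zero.1 ((mul_eq_zero.1 h2).resolve_right ha)
  refine ⟨σ, c i, mul_self_eq_one_iff.1 hcc, fun k => ?_⟩
  rw [hsc, hconst k i, hσ]

/-- `K` contains an element of prime order `|G : K| - 1`, not in every conjugate of `K`. -/
theorem dc_of_prime {G : Type*} [Group G] [Finite G] {K : Subgroup G} {r : ℕ} (hr : r.Prime) (hidx : K.index = r + 1)
    {x : G} (hx : x ∈ K) (hxr : x ^ r = 1) {g1 : G} (hg1 : g1⁻¹ * x * g1 ∉ K) :
    ∀ g ∉ K, ∀ g' ∉ K, ∃ k ∈ K, ∃ k' ∈ K, g' = k * g * k' := by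
  classical
  have hord : orderOf x = r := by
    refine ((Nat.dvd_prime hr).1 (orderOf_dvd_of_pow_eq_one hxr)).resolve_left fun h => hg1 ?_
    rw [orderOf_eq_one_iff.1 h, mul_one, inv_mul_cancel]
    exact K.one_mem
  -- the orbit of `g1 K` under `⟨x⟩` has `r` elements
  have hcard : Nat.card (Subgroup.zpowers x) = r := by rw [Nat.card_zpowers, hord]
  have h1 := Nat.card_congr (MulAction.orbitProdStabilizerEquivGroup (Subgroup.zpowers x) ((g1 : G) : G ⧸ K))
  rw [Nat.card_prod, hcard] at h1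
  have hstab : Nat.card (MulAction.stabilizer (Subgroup.zpowers x) ((g1 : G) : G ⧸ K)) ≠ r := by
    intro h2
    have h3 : MulAction.stabilizer (Subgroup.zpowers x) ((g1 : G) : G ⧸ K) = ⊤ :=
      Subgroup.eq_top_of_card_eq _ (by rw [h2, hcard])
    have h4 : (⟨x, Subgroup.mem_zpowers x⟩ : Subgroup.zpowers x) ∈
        MulAction.stabilizer (Subgroup.zpowers x) ((g1 : G) : G ⧸ K) := by rw [h3]; trivial
    rw [MulAction.mem_stabilizer_iff] at h4
    have h5 : ((x * g1 : G) : G ⧸ K) = ((g1 : G) : G ⧸ K) := h4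
    rw [eq_comm, QuotientGroup.eq, ← mul_assoc] at h5
    exact hg1 h5
  have horb : Nat.card (MulAction.orbit (Subgroup.zpowers x) ((g1 : G) : G ⧸ K)) = r := by
    have h2 : Nat.card (MulAction.stabilizer (Subgroup.zpowers x) ((g1 : G) : G ⧸ K)) ∣ r := ⟨_, by rw [mul_comm]; exact h1.symm⟩
    rcases (Nat.dvd_prime hr).1 h2 with h3 | h3
    · rw [h3, mul_one] at h1; exact h1
    · exact absurd h3 hstab
  have h1K : ((1 : G) : G ⧸ K) ∉ MulAction.orbit (Subgroup.zpowers x) ((g1 : G) : G ⧸ K) := by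
    rintro ⟨⟨y, hy⟩, h⟩
    have h3 : ((y * g1 : G) : G ⧸ K) = ((1 : G) : G ⧸ K) := h
    rw [eq_comm, QuotientGroup.eq, inv_one, one_mul] at h3
    have hyK : y ∈ K := (Subgroup.zpowers_le.2 hx) hy
    have h4 : g1 ∈ K := (K.mul_mem_cancel_left hyK).1 h3
    exact hg1 (K.mul_mem (K.mul_mem (K.inv_mem h4) hx) h4)
  have key : ∀ g' : G, g' ∉ K → ((g' : G) : G ⧸ K) ∈ MulAction.orbit (Subgroup.zpowers x) ((g1 : G) : G ⧸ K) := by
    intro g' hg'
    by_contra hne
    have hne1 : ((g' : G) : G ⧸ K) ≠ ((1 : G) : G ⧸ K) := by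
      intro h
      rw [eq_comm, QuotientGroup.eq, inv_one, one_mul] at h
      exact hg' h
    have h2 : (insert ((g' : G) : G ⧸ K) (insert ((1 : G) : G ⧸ K)
        (MulAction.orbit (Subgroup.zpowers x) ((g1 : G) : G ⧸ K)))).ncard = r + 2 := by
      rw [Set.ncard_insert_of_notMem (by
        rintro (h | h)
        · exact hne1 h
        · exact hne h) (Set.toFinite _), Set.ncard_insert_of_notMem h1K (Set.toFinite _)]
      have : (MulAction.orbit (Subgroup.zpowers x) ((g1 : G) : G ⧸ K)).ncard = r := horb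
      rw [this]
    have h3 : (insert ((g' : G) : G ⧸ K) (insert ((1 : G) : G ⧸ K)
        (MulAction.orbit (Subgroup.zpowers x) ((g1 : G) : G ⧸ K)))).ncard ≤ Nat.card (G ⧸ K) := by
      rw [← Set.ncard_univ]
      exact Set.ncard_le_ncard (Set.subset_univ _) (Set.toFinite _)
    rw [h2] at h3
    have h4 : Nat.card (G ⧸ K) = r + 1 := hidx
    omega
  intro g hg g' hg'
  obtain ⟨⟨y, hy⟩, hy'⟩ := key g hg
  obtain ⟨⟨z, hz⟩, hz'⟩ := key g' hg'
  have hy2 : ((y * g1 : G) : G ⧸ K) = ((g : G) : G ⧸ K) := hy'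
  have hz2 : ((z * g1 : G) : G ⧸ K) = ((g' : G) : G ⧸ K) := hz'
  rw [QuotientGroup.eq] at hy2 hz2
  have hyK : y ∈ K := (Subgroup.zpowers_le.2 hx) hy
  have hzK : z ∈ K := (Subgroup.zpowers_le.2 hx) hz
  -- `g1 = y⁻¹ g ((y g1)⁻¹ g)⁻¹`
  refine ⟨z * y⁻¹, K.mul_mem hzK (K.inv_mem hyK), ((y * g1)⁻¹ * g)⁻¹ * ((z * g1)⁻¹ * g'),
    K.mul_mem (K.inv_mem hy2) hz2, ?_⟩
  group

/-- The lines `F (g v0)`, `g ∈ P`. -/
def Lines (P H : Subgroup (V ≃ₗ[F] V)) (v0 : V) : Prop := ∀ h ∈ H, ∃ g ∈ P, ∃ c : F, h v0 = c • g v0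

variable [Finite F] {P H : Subgroup (V ≃ₗ[F] V)} {K : Subgroup P} {v0 : V} {Q : QuadraticForm F V}

/-- `H` preserves the set of the lines `⟨v i⟩` -/
theorem le_SG [Fintype (P ⧸ K)] [DecidableEq (P ⧸ K)] {a : F} (S : Sys F (orb P K v0)) (hg : Gr Q (orb P K v0) a) (ha : a ≠ 0)
    (h3 : 3 ≤ Fintype.card (P ⧸ K)) (hHO : H ≤ O Q) (hfix : ∀ k ∈ K, (k : V ≃ₗ[F] V) v0 = v0)
    (hn : ∀ h ∈ H, ∀ x ∈ P, h * x * h⁻¹ ∈ P) (hl : Lines P H v0) : H ≤ SG F (orb P K v0) := by
  intro h hh
  refine mem_SG_of_lines S hg ha h3 (hHO hh) fun i => ?_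
  induction i using QuotientGroup.induction_on with
  | H g =>
    obtain ⟨g2, hg2, c, hc⟩ := hl h hh
    refine ⟨(((⟨h * g * h⁻¹, hn h hh g g.2⟩ : P) * ⟨g2, hg2⟩ : P) : P ⧸ K), c, ?_⟩
    rw [orb_mk hfix, orb_mk hfix]
    change h ((g : V ≃ₗ[F] V) v0) = c • (h * g * h⁻¹ * g2) v0
    have e : (h * (g : V ≃ₗ[F] V) * h⁻¹ * g2) v0 = h ((g : V ≃ₗ[F] V) (h⁻¹ (g2 v0))) := rfl
    rw [e, ← map_smul, ← map_smul, ← map_smul, ← hc]
    congr 2
    exact (LinearEquiv.symm_apply_apply h v0).symm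

/-- **Main theorem.** `P` irreducible, `K ≤ P` of index `dim V + 1 ≥ 6` fixes `v0 ≠ 0`, `P = K ∪ K g K`, `P` normal in
the maximal subgroup `H` of `E Q`, and `H` permutes the lines spanned by the images of `v0`. Then `P ≃ Alt m`,
`m = dim V + 1`, and the characteristic divides neither `m` nor (if it is not `3`) `m + 1`. -/
theorem main (h2 : (2 : F) ≠ 0) (hG : Good Q) (hH : Cfsg.Geo.IsMaximalIn (E Q) H) (hPH : P ≤ H)
    (hn : ∀ h ∈ H, ∀ x ∈ P, h * x * h⁻¹ ∈ P) (hp : ⁅P, P⁆ = P) (hne : P ≠ ⊥) (hirr : Irr P)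
    (hK : K.index = Module.finrank F V + 1) (h0 : v0 ≠ 0) (hfix : ∀ k ∈ K, (k : V ≃ₗ[F] V) v0 = v0)
    (hdc : ∀ g ∉ K, ∀ g' ∉ K, ∃ k ∈ K, ∃ k' ∈ K, g' = k * g * k') (hl : Lines P H v0) {m : ℕ}
    (hm : Module.finrank F V + 1 = m) :
    Nonempty (P ≃* alternatingGroup (Fin m)) ∧ (m : F) ≠ 0 ∧ ((3 : F) ≠ 0 → (m : F) + 1 ≠ 0) := by
  classical
  have hd := hG.dim
  have hfinV : Module.Finite F V := Module.finite_of_finrank_pos (by omega)
  have : Finite V := Module.finite_of_finite F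
  have : Finite (V ≃ₗ[F] V) := by
    refine Finite.of_injective (fun f : V ≃ₗ[F] V => (f : V → V)) ?_
    intro f g hfg
    exact LinearEquiv.ext fun x => congrFun hfg x
  have : Fintype (P ⧸ K) := Fintype.ofFinite _
  have S : Sys F (orb P K v0) := sys_orb hirr hK (by omega) h0 hfix
  have hcard : Fintype.card (P ⧸ K) = m := by rw [S.card, hm]
  obtain ⟨a, hg⟩ := gr_orb (K := K) (v0 := v0) ((hPH.trans hH.1.le).trans E_le_O) hfix hdc
  have ha : a ≠ 0 := a_ne S hg hG.nondeg
  have hSG : H ≤ SG F (orb P K v0) := le_SG S hg ha (by omega) (hH.1.le.trans E_le_O) hfix hn hl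
  refine ⟨?_, ?_, fun h3 hm1 => ?_⟩
  · have h1 := core_eq S hg h2 hG (by omega) hH hSG hPH hn hp hne
    obtain ⟨e⟩ := altG_equiv S (by omega) hcard
    exact ⟨(MulEquiv.subgroupCongr h1).trans e⟩
  · rw [← hcard]
    exact card_ne S hg hG.nondeg (by omega)
  · exact not_maximal S hg h2 hG h3 (by omega) (by rw [hcard]; exact hm1) hH hSG

end Cfsg.Agent.H882.Del
end

-- part: H882/Del/Mat
section
/-!
# Deleted permutation modules: matrix groups

`mat_main` : `H` maximal in `omegaGL Q`, `P` a residual core of `H`, `K ≤ P` of index `n + 1` fixing `v0 ≠ 0`, ...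
-/

set_option autoImplicit false
set_option linter.unusedSectionVars false

namespace Cfsg.Agent.H882.Del

open QuadraticMap hiding proj
open Cfsg.Agent.LieClassical.OrthCore Cfsg.Agent.LieClassical.OrthTrans Cfsg.Agent.LieClassical.OrthFinite
open Cfsg Cfsg.Geo Matrix
open Cfsg.Agent.H915.LD

universe u

variable {ι : Type} [Fintype ι] [DecidableEq ι] {F : Type u} [Field F] [Finite F]

/-- The simple group `Soc P` if `P` is simple. -/
theorem soc_equiv {P : Subgroup (GL ι F)} (hC : Core P) {T : Type*} [Group T] (hT : IsSimpleGroup T) (e : P ≃* T) :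
    Nonempty (Soc P ≃* T) := by
  have hs : IsSimpleGroup P := e.isSimpleGroup_congr.2 hT
  rcases hs.eq_bot_or_eq_top_of_normal ((scalars ι F).subgroupOf P) inferInstance with h | h
  · let e1 : P ≃* Soc P := (QuotientGroup.quotientBot (G := P)).symm.trans (QuotientGroup.quotientMulEquivOfEq h.symm)
    exact ⟨e1.symm.trans e⟩
  · exfalso
    apply hC.nonabelian
    refine ⟨⟨fun a b => ?_⟩⟩
    induction a using QuotientGroup.induction_on with
    | H a =>
      induction b using QuotientGroup.induction_on with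
      | H b =>
        have h1 : ∀ a : P, (a : P ⧸ (scalars ι F).subgroupOf P) = 1 := by
          intro a
          rw [QuotientGroup.eq_one_iff, h]; trivial
        rw [h1 a, h1 b]

theorem mat_main (h2 : (2 : F) ≠ 0) {Q : QuadraticForm F (ι → F)} (hQ : Nondeg Q) (h5 : 5 ≤ Fintype.card ι)
    {H P : Subgroup (GL ι F)} (hH : IsMaximalIn (omegaGL (Q : (ι → F) → F)) H) (hPc : IsResidualCore H P)
    {K : Subgroup P} (hK : K.index = Fintype.card ι + 1) {v0 : ι → F} (h0 : v0 ≠ 0)
    (hfix : ∀ k ∈ K, ((k : GL ι F) : Matrix ι ι F) *ᵥ v0 = v0)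
    (hdc : ∀ g ∉ K, ∀ g' ∉ K, ∃ k ∈ K, ∃ k' ∈ K, g' = k * g * k')
    (hl : ∀ h ∈ H, ∃ g ∈ P, ∃ c : F, (h : Matrix ι ι F) *ᵥ v0 = c • ((g : Matrix ι ι F) *ᵥ v0)) {m : ℕ}
    (hm : Fintype.card ι + 1 = m) :
    Nonempty (Soc P ≃* alternatingGroup (Fin m)) ∧ (m : F) ≠ 0 ∧ ((3 : F) ≠ 0 → (m : F) + 1 ≠ 0) := by
  have hC : Core P := core_of_residual hPc
  have hG : Good Q := Cfsg.Agent.H883.Bridge.good_of_card hQ h5
  let E0 := glEquiv ι F
  have hap : ∀ (g : GL ι F) (v : ι → F), E0 g v = (g : Matrix ι ι F) *ᵥ v := fun g v => glEquiv_apply g v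
  let P' : Subgroup ((ι → F) ≃ₗ[F] (ι → F)) := P.map E0.toMonoidHom
  let H' : Subgroup ((ι → F) ≃ₗ[F] (ι → F)) := H.map E0.toMonoidHom
  let eP : P ≃* P' := E0.subgroupMap P
  have heP : ∀ g : P, ((eP g : P') : (ι → F) ≃ₗ[F] (ι → F)) = E0 (g : GL ι F) := fun _ => rfl
  let K' : Subgroup P' := K.map eP.toMonoidHom
  have hKmem : ∀ g : P, eP g ∈ K' ↔ g ∈ K := fun g => Subgroup.mem_map_iff_mem eP.injective
  have hsurj : ∀ g' : P', ∃ g : P, eP g = g' := eP.surjective
  have hH' : IsMaximalIn (E Q) H' := by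
    have h := (Cfsg.Agent.H883.Bridge.isMaximalIn_map_iff E0 (omegaGL (Q : (ι → F) → F)) H).2 hH
    rwa [Cfsg.Agent.H883.Bridge.map_omegaGL_eq_E hG] at h
  have hfin : Module.finrank F (ι → F) = Fintype.card ι := Module.finrank_fintype_fun_eq_card F
  subst hm
  obtain ⟨⟨e⟩, h3, h4⟩ := main (P := P') (H := H') (K := K') (v0 := v0) (Q := Q) (m := Fintype.card ι + 1) h2 hG hH'
    (Subgroup.map_mono hPc.le)
    (by
      rintro _ ⟨h, hh, rfl⟩ _ ⟨x, hx, rfl⟩
      refine ⟨h * x * h⁻¹, hPc.normal h hh x hx, ?_⟩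
      simp)
    (by
      change ⁅P.map E0.toMonoidHom, P.map E0.toMonoidHom⁆ = _
      rw [← Subgroup.map_commutator, hPc.perfect])
    (by
      intro hb
      have h1 : P = ⊥ := (Subgroup.map_eq_bot_iff_of_injective P (f := E0.toMonoidHom) E0.injective).1 hb
      subst h1
      exact hC.nonabelian ⟨⟨fun a b => by
        induction a using QuotientGroup.induction_on with
        | H a =>
          induction b using QuotientGroup.induction_on with
          | H b => rw [Subsingleton.elim a b]⟩⟩)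
    (by
      intro W hW
      refine hC.absIrred.1 W fun s hs => ?_
      obtain ⟨g, hg, rfl⟩ := hs
      rintro _ ⟨w, hw, rfl⟩
      have := hW (E0 g) ⟨g, hg, rfl⟩ w hw
      rw [hap] at this
      rwa [Matrix.toLin'_apply])
    (by
      rw [hfin, ← hK]
      exact Subgroup.index_map_equiv K eP)
    h0
    (by
      intro k hk
      obtain ⟨g, rfl⟩ := hsurj k
      rw [heP, hap]
      exact hfix g ((hKmem g).1 hk))
    (by
      intro g hg g' hg'
      obtain ⟨g, rfl⟩ := hsurj g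
      obtain ⟨g', rfl⟩ := hsurj g'
      rw [hKmem] at hg hg'
      obtain ⟨k, hk, k', hk', e⟩ := hdc g hg g' hg'
      exact ⟨eP k, (hKmem k).2 hk, eP k', (hKmem k').2 hk', by rw [e, map_mul, map_mul]⟩)
    (by
      rintro _ ⟨h, hh, rfl⟩
      obtain ⟨g, hg, c, e⟩ := hl h hh
      refine ⟨E0 g, ⟨g, hg, rfl⟩, c, ?_⟩
      change E0 h v0 = c • E0 g v0
      rw [hap, hap, e])
    (by rw [hfin])
  refine ⟨?_, h3, h4⟩
  exact soc_equiv hC (alternatingGroup.isSimpleGroup (by rw [Nat.card_eq_fintype_card, Fintype.card_fin]; omega))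
    (eP.trans e)

end Cfsg.Agent.H882.Del
end
end

-- part: H882/Del/Syl
section
set_option linter.all false
open scoped Cfsg.Agent.FastGrp

/-!
# The lines fixed by the Sylow subgroups
-/

set_option autoImplicit false
set_option linter.unusedSectionVars false

namespace Cfsg.Agent.H882.Del

open Cfsg Cfsg.Geo Matrix
open scoped Pointwise

universe u

variable {ι : Type} [Fintype ι] [DecidableEq ι] {F : Type u} [Field F] [Finite F]

theorem mulVec_mul (a b : GL ι F) (v : ι → F) :
    ((a * b : GL ι F) : Matrix ι ι F) *ᵥ v = (a : Matrix ι ι F) *ᵥ ((b : Matrix ι ι F) *ᵥ v) := by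
  rw [Units.val_mul, Matrix.mulVec_mulVec]

theorem inv_mulVec (a : GL ι F) (v : ι → F) :
    ((a⁻¹ : GL ι F) : Matrix ι ι F) *ᵥ ((a : Matrix ι ι F) *ᵥ v) = v := by
  rw [← mulVec_mul, inv_mul_cancel, Units.val_one, Matrix.one_mulVec]

/-- Conjugation by an element of `H`. -/
def cjA {P : Subgroup (GL ι F)} (h : GL ι F) (h1 : ∀ x ∈ P, h * x * h⁻¹ ∈ P) (h2 : ∀ x ∈ P, h⁻¹ * x * h⁻¹⁻¹ ∈ P) :
    MulAut P where
  toFun x := ⟨h * x * h⁻¹, h1 x x.2⟩
  invFun x := ⟨h⁻¹ * x * h⁻¹⁻¹, h2 x x.2⟩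
  left_inv x := Subtype.ext (by
    change h⁻¹ * (h * x * h⁻¹) * h⁻¹⁻¹ = x
    group)
  right_inv x := Subtype.ext (by
    change h * (h⁻¹ * x * h⁻¹⁻¹) * h⁻¹ = x
    group)
  map_mul' x y := Subtype.ext (by
    change h * (x * y) * h⁻¹ = h * x * h⁻¹ * (h * y * h⁻¹)
    group)

/-- If the fixed space of a Sylow subgroup is the line spanned by `v0`, then `H` permutes the lines `F (g v0)`. -/
theorem lines_of_sylow {P H : Subgroup (GL ι F)} {r : ℕ} [Fact r.Prime] (U : Sylow r P) {v0 : ι → F}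
    (hfix : ∀ u ∈ U, ((u : GL ι F) : Matrix ι ι F) *ᵥ v0 = v0)
    (huniq : ∀ w : ι → F, (∀ u ∈ U, ((u : GL ι F) : Matrix ι ι F) *ᵥ w = w) → ∃ c : F, w = c • v0)
    (hn : ∀ h ∈ H, ∀ x ∈ P, h * x * h⁻¹ ∈ P) :
    ∀ h ∈ H, ∃ g ∈ P, ∃ c : F, (h : Matrix ι ι F) *ᵥ v0 = c • ((g : Matrix ι ι F) *ᵥ v0) := by
  intro h hh
  let α : MulAut P := cjA h (hn h hh) (hn h⁻¹ (inv_mem hh))
  obtain ⟨g, hg⟩ := MulAction.exists_smul_eq P U (α • U)
  have key : ∀ w : ι → F, w = ((g⁻¹ : P) : GL ι F).1 *ᵥ ((h : Matrix ι ι F) *ᵥ v0) → ∃ c : F, w = c • v0 := by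
    intro w hw
    refine huniq w fun u hu => ?_
    -- `g u g⁻¹ = h u' h⁻¹`
    have h1 : g * u * g⁻¹ ∈ (α • U : Sylow r P) := by
      rw [← hg]
      change g * u * g⁻¹ ∈ MulAut.conj g • (U : Subgroup P)
      exact Subgroup.mem_smul_pointwise_iff_exists _ _ _ |>.2 ⟨u, hu, rfl⟩
    obtain ⟨u', hu', e⟩ := (Subgroup.mem_smul_pointwise_iff_exists _ _ _).1
      (show g * u * g⁻¹ ∈ α • (U : Subgroup P) from h1)
    have e' : h * (u' : GL ι F) * h⁻¹ = (g : GL ι F) * u * (g : GL ι F)⁻¹ := congrArg Subtype.val e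
    rw [hw, ← mulVec_mul, ← mulVec_mul, ← mulVec_mul]
    have e2 : (u : GL ι F) * (((g⁻¹ : P) : GL ι F) * h) = ((g⁻¹ : P) : GL ι F) * h * (u' : GL ι F) := by
      have : (u : GL ι F) = (g : GL ι F)⁻¹ * (h * (u' : GL ι F) * h⁻¹) * g := by rw [e']; group
      rw [this]
      simp only [Subgroup.coe_inv]
      group
    have e3 : (u : GL ι F) * ((g⁻¹ : P) : GL ι F) * h = ((g⁻¹ : P) : GL ι F) * h * (u' : GL ι F) := by
      rw [← e2]; group
    first
      | rw [e2, mulVec_mul _ (u' : GL ι F), hfix u' hu']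
      | rw [e3, mulVec_mul _ (u' : GL ι F), hfix u' hu']
  obtain ⟨c, hc⟩ := key _ rfl
  refine ⟨g, g.2, c, ?_⟩
  rw [← Matrix.mulVec_smul, ← hc, ← mulVec_mul, Subgroup.coe_inv, mul_inv_cancel, Units.val_one, Matrix.one_mulVec]

end Cfsg.Agent.H882.Del
end

-- part: H882/Del/Stein
section
set_option linter.all false
open scoped Cfsg.Agent.FastGrp

/-!
# The Steinberg representation of `PSL₂(q)`, `q ≡ 3 mod 4`, in cross characteristic is a deleted permutation module

`steinberg_kill` : `H` maximal in `omegaGL Q`, residual core `P` with `Soc P ≃ PSL₂(K)`, `|K| = n ≡ 3 mod 4`, `n ≥ 7`,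
`char F ∤ n`: impossible.
-/

set_option autoImplicit false
set_option linter.unusedSectionVars false

namespace Cfsg.Agent.H882.Del

open QuadraticMap hiding proj
open Cfsg.Agent.LieClassical.OrthCore Cfsg.Agent.LieClassical.OrthTrans Cfsg.Agent.LieClassical.OrthFinite
open Cfsg Cfsg.Geo Matrix Module
open Cfsg.Agent.H915.LD Cfsg.Agent.H464.Sl2

universe u v

variable {ι : Type} [Fintype ι] [DecidableEq ι] {F : Type u} [Field F]

section ext

variable {G : Type*} [Group G] (ρ : G →* GL ι F) (k : Type*) [Field k] [Algebra F k]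

/-- The representation over an extension field. -/
noncomputable def exti : G →* Module.End k (ι → k) :=
  (Matrix.toLinAlgEquiv' : Matrix ι ι k ≃ₐ[k] _).toAlgHom.toRingHom.toMonoidHom.comp
    ((algebraMap F k).mapMatrix.toMonoidHom.comp ((Units.coeHom _).comp ρ))

theorem exti_apply (g : G) : exti ρ k g = Matrix.toLin' ((ρ g : Matrix ι ι F).map (algebraMap F k)) := rfl

theorem span_exti (h : Submodule.span F (Set.range fun g : G => (ρ g : Matrix ι ι F)) = ⊤) :
    Submodule.span k (Set.range (exti ρ k)) = ⊤ := by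
  classical
  have h1 : ∀ M : Matrix ι ι F,
      Matrix.toLin' (M.map (algebraMap F k)) ∈ Submodule.span k (Set.range (exti ρ k)) := by
    intro M
    have hM : M ∈ Submodule.span F (Set.range fun g : G => (ρ g : Matrix ι ι F)) := by
      rw [h]; trivial
    induction hM using Submodule.span_induction with
    | mem x hx =>
      obtain ⟨g, rfl⟩ := hx
      exact Submodule.subset_span ⟨g, rfl⟩
    | zero =>
      rw [Matrix.map_zero _ (map_zero _), map_zero]
      exact Submodule.zero_mem _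
    | add x y _ _ hx hy =>
      rw [Matrix.map_add _ (map_add _), map_add]
      exact Submodule.add_mem _ hx hy
    | smul a x _ hx =>
      have h2 : (a • x).map (algebraMap F k) = (algebraMap F k a) • x.map (algebraMap F k) := by
        ext i j
        simp
      rw [h2, map_smul]
      exact Submodule.smul_mem _ _ hx
  rw [eq_top_iff]
  intro f _
  have h2 : f = Matrix.toLin' (LinearMap.toMatrix' f) := by simp
  rw [h2, Matrix.matrix_eq_sum_single (LinearMap.toMatrix' f), map_sum]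
  refine Submodule.sum_mem _ fun i _ => ?_
  rw [map_sum]
  refine Submodule.sum_mem _ fun j _ => ?_
  have h3 : Matrix.single i j (LinearMap.toMatrix' f i j) =
      (LinearMap.toMatrix' f i j) • (Matrix.single i j (1 : F)).map (algebraMap F k) := by
    rw [Matrix.map_single, map_one, Matrix.smul_single, smul_eq_mul, mul_one]
  rw [h3, map_smul]
  exact Submodule.smul_mem _ _ (h1 _)

theorem span_of_core {P : Subgroup (GL ι F)} (hC : Core P) {ρ : G →* GL ι F} (hρ : ρ.range = P) :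
    Submodule.span F (Set.range fun g : G => (ρ g : Matrix ι ι F)) = ⊤ := by
  have h := Cfsg.Agent.H919.adjoin_eq_top_of_absIrr hC.absIrred
  rw [eq_top_iff]
  intro x _
  have hx : x ∈ Algebra.adjoin F (matrixSet P) := by rw [h]; trivial
  induction hx using Algebra.adjoin_induction with
  | mem x hx =>
    obtain ⟨y, hy, rfl⟩ := hx
    rw [← hρ] at hy
    obtain ⟨g, rfl⟩ := hy
    exact Submodule.subset_span ⟨g, rfl⟩
  | algebraMap r =>
    rw [Algebra.algebraMap_eq_smul_one]
    refine Submodule.smul_mem _ _ (Submodule.subset_span ⟨1, ?_⟩)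
    simp
  | add x y _ _ hx hy => exact Submodule.add_mem _ (hx trivial) (hy trivial)
  | mul x y _ _ hx hy =>
    have h1 := Submodule.mul_mem_mul (hx trivial) (hy trivial)
    rw [Submodule.span_mul_span] at h1
    refine Submodule.span_mono ?_ h1
    rintro _ ⟨_, ⟨g, rfl⟩, _, ⟨g', rfl⟩, rfl⟩
    exact ⟨g * g', by simp⟩

end ext

section fix

variable {K : Type v} [Field K] [Fintype K] (ρ : _root_.Matrix.SpecialLinearGroup (Fin 2) K →* GL ι F)

/-- The projection onto the fixed space of `u(K)`. -/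
noncomputable def M0 : Matrix ι ι F := ((Fintype.card K : F))⁻¹ • ∑ x : K, (ρ (u x) : Matrix ι ι F)

theorem u_mul_M0 (y : K) : (ρ (u y) : Matrix ι ι F) * M0 ρ = M0 ρ := by
  unfold M0
  rw [mul_smul_comm, Finset.mul_sum]
  congr 1
  rw [← Equiv.sum_comp (Equiv.addLeft y) (fun x : K => (ρ (u x) : Matrix ι ι F))]
  refine Finset.sum_congr rfl fun x _ => ?_
  rw [← Units.val_mul, ← map_mul, ← u_add]
  rfl

theorem M0_mulVec (hK : (Fintype.card K : F) ≠ 0) {w : ι → F} (hw : ∀ x : K, (ρ (u x) : Matrix ι ι F) *ᵥ w = w) :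
    M0 ρ *ᵥ w = w := by
  unfold M0
  rw [Matrix.smul_mulVec, Matrix.sum_mulVec, Finset.sum_congr rfl fun x _ => hw x, Finset.sum_const, Finset.card_univ,
    ← Nat.cast_smul_eq_nsmul F, smul_smul, inv_mul_cancel₀ hK, one_smul]

theorem E_zero_eq (k : Type*) [Field k] [Algebra F k] (ψ : AddChar K k) :
    H464.Sl2.E (exti ρ k) ψ 0 = Matrix.toLin' ((M0 ρ).map (algebraMap F k)) := by
  unfold H464.Sl2.E M0
  have h1 : (((Fintype.card K : F))⁻¹ • ∑ x : K, (ρ (u x) : Matrix ι ι F)).map (algebraMap F k) =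
      ((Fintype.card K : k))⁻¹ • ∑ x : K, ((ρ (u x) : Matrix ι ι F).map (algebraMap F k)) := by
    ext i j
    simp only [Matrix.sum_apply, _root_.Matrix.map_apply, _root_.Matrix.smul_apply, _root_.smul_eq_mul, _root_.map_mul, _root_.map_inv₀, _root_.map_natCast, _root_.map_sum]
  rw [h1, map_smul, map_sum]
  congr 1
  refine Finset.sum_congr rfl fun x _ => ?_
  rw [zero_mul, neg_zero, AddChar.map_zero_eq_one, one_smul, exti_apply]

theorem exists_v0 (hK : (Fintype.card K : F) ≠ 0) (k : Type*) [Field k] [Algebra F k] (ψ : AddChar K k)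
    (h1 : finrank k (LinearMap.range (H464.Sl2.E (exti ρ k) ψ 0)) = 1) :
    ∃ v0 : ι → F, v0 ≠ 0 ∧ (∀ x : K, (ρ (u x) : Matrix ι ι F) *ᵥ v0 = v0) ∧
      ∀ w : ι → F, (∀ x : K, (ρ (u x) : Matrix ι ι F) *ᵥ w = w) → ∃ c : F, w = c • v0 := by
  rw [E_zero_eq] at h1
  have hM : M0 ρ ≠ 0 := by
    intro h0
    rw [h0, Matrix.map_zero _ (map_zero _), map_zero, LinearMap.range_zero, finrank_bot] at h1
    exact absurd h1 (by norm_num)
  obtain ⟨w0, hw0⟩ : ∃ w0, M0 ρ *ᵥ w0 ≠ 0 := by
    by_contra hcon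
    push Not at hcon
    apply hM
    apply Matrix.toLin'.injective
    ext1 i
    ext j
    simp [hcon]
  have hfix : ∀ x : K, (ρ (u x) : Matrix ι ι F) *ᵥ (M0 ρ *ᵥ w0) = M0 ρ *ᵥ w0 := by
    intro x
    rw [Matrix.mulVec_mulVec, u_mul_M0]
  have hmem : ∀ w : ι → F, M0 ρ *ᵥ w = w →
      (fun i => algebraMap F k (w i)) ∈ LinearMap.range (Matrix.toLin' ((M0 ρ).map (algebraMap F k))) := by
    intro w hw
    refine ⟨fun i => algebraMap F k (w i), ?_⟩
    rw [Matrix.toLin'_apply]
    funext i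
    conv_rhs => rw [← hw]
    simp only [Matrix.mulVec, dotProduct, map_sum, map_mul, _root_.Matrix.map_apply]
  refine ⟨M0 ρ *ᵥ w0, hw0, hfix, fun w hw => ?_⟩
  obtain ⟨i, hi⟩ : ∃ i, (M0 ρ *ᵥ w0) i ≠ 0 := by
    by_contra hcon
    push Not at hcon
    exact hw0 (funext hcon)
  have hm1 := hmem _ (M0_mulVec ρ hK hfix)
  have hm2 := hmem _ (M0_mulVec ρ hK hw)
  have hne : (⟨_, hm1⟩ : LinearMap.range (Matrix.toLin' ((M0 ρ).map (algebraMap F k)))) ≠ 0 := by
    intro h
    have h2 := congrFun (congrArg Subtype.val h) i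
    exact hi ((algebraMap F k).injective (by rw [map_zero]; exact h2))
  obtain ⟨c, hc⟩ := (finrank_eq_one_iff_of_nonzero' _ hne).1 h1 ⟨_, hm2⟩
  have hc' : ∀ j, c * algebraMap F k ((M0 ρ *ᵥ w0) j) = algebraMap F k (w j) :=
    fun j => congrFun (congrArg Subtype.val hc) j
  refine ⟨w i / (M0 ρ *ᵥ w0) i, ?_⟩
  funext j
  apply (algebraMap F k).injective
  rw [Pi.smul_apply, smul_eq_mul, map_mul, map_div₀, ← hc' i, ← hc' j, mul_div_cancel_right₀]
  exact fun h => hi ((algebraMap F k).injective (by rw [map_zero]; exact h))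

end fix

section group

variable {K : Type v} [Field K] [Fintype K]

theorem w_inv (c : Kˣ) : (w c)⁻¹ = w (-c) := by
  have h : -(-c / c) = (1 : Kˣ) := by
    apply Units.ext
    simp
  rw [inv_eq_iff_mul_eq_one, w_mul_w, h, t_one]

/-- A subgroup containing the Borel subgroup but not `w 1` -/
theorem index_stab (S : Subgroup (_root_.Matrix.SpecialLinearGroup (Fin 2) K)) (hu : ∀ x, u x ∈ S) (ht : ∀ a, t a ∈ S)
    (hw : w 1 ∉ S) : S.index = Fintype.card K + 1 := by
  have hwc : ∀ c : Kˣ, w c ∉ S := by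
    intro c hc
    apply hw
    rw [← w_one_mul_t] at hc
    exact (S.mul_mem_cancel_right (ht c)).1 hc
  let f : Option K → _root_.Matrix.SpecialLinearGroup (Fin 2) K ⧸ S := fun o => o.elim (QuotientGroup.mk 1) fun x => QuotientGroup.mk (u x * w 1)
  have hf : Function.Bijective f := by
    constructor
    · have h1 : ∀ x : K, (QuotientGroup.mk (1 : _root_.Matrix.SpecialLinearGroup (Fin 2) K) : _root_.Matrix.SpecialLinearGroup (Fin 2) K ⧸ S) ≠
          QuotientGroup.mk (u x * w 1) := by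
        intro x h
        have h2 := QuotientGroup.eq.1 h
        rw [inv_one, one_mul] at h2
        exact hw ((S.mul_mem_cancel_left (hu x)).1 h2)
      have h2 : ∀ x y : K, (QuotientGroup.mk (u x * w 1) : _root_.Matrix.SpecialLinearGroup (Fin 2) K ⧸ S) =
          QuotientGroup.mk (u y * w 1) → x = y := by
        intro x y h
        by_contra hne
        have h3 := QuotientGroup.eq.1 h
        have hz : y - x ≠ 0 := sub_ne_zero.2 (Ne.symm hne)
        have h4 : (u x * w 1)⁻¹ * (u y * w 1) = w (-1) * u ((Units.mk0 _ hz : Kˣ) : K) * w 1 := by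
          rw [_root_.mul_inv_rev, w_inv, Units.val_mk0, sub_eq_add_neg, add_comm, u_add]
          have h5 : (u x)⁻¹ = u (-x) := by
            rw [inv_eq_iff_mul_eq_one, ← u_add, add_neg_cancel, u_zero]
          rw [h5]
          group
        rw [h4, w_u_w] at h3
        exact hwc _ ((S.mul_mem_cancel_left (hu _)).1 ((S.mul_mem_cancel_right (hu _)).1 h3))
      intro a b hab
      cases a with
      | none =>
        cases b with
        | none => rfl
        | some y => exact absurd hab (h1 y)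
      | some x =>
        cases b with
        | none => exact absurd hab.symm (h1 x)
        | some y => rw [h2 x y hab]
    · intro y
      induction y using QuotientGroup.induction_on with
      | H g =>
        rcases bruhat g with ⟨x, a, rfl⟩ | ⟨x, c, y, rfl⟩
        · refine ⟨none, QuotientGroup.eq.2 ?_⟩
          rw [inv_one, one_mul]
          exact S.mul_mem (hu x) (ht a)
        · refine ⟨some x, QuotientGroup.eq.2 ?_⟩
          have h5 : (u x * w 1)⁻¹ * (u x * w c * u y) = (w 1)⁻¹ * w c * u y := by group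
          rw [h5, w_inv, w_mul_w]
          exact S.mul_mem (ht _) (hu y)
  rw [Subgroup.index, ← Nat.card_congr (Equiv.ofBijective f hf), Nat.card_eq_fintype_card, Fintype.card_option]

theorem dc_stab (S : Subgroup (_root_.Matrix.SpecialLinearGroup (Fin 2) K)) (hu : ∀ x, u x ∈ S) (ht : ∀ a, t a ∈ S) :
    ∀ s ∉ S, ∀ s' ∉ S, ∃ k ∈ S, ∃ k' ∈ S, s' = k * s * k' := by
  intro s hs s' hs'
  rcases bruhat s with ⟨x, a, rfl⟩ | ⟨x, c, y, rfl⟩
  · exact absurd (S.mul_mem (hu x) (ht a)) hs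
  rcases bruhat s' with ⟨x', a, rfl⟩ | ⟨x', c', y', rfl⟩
  · exact absurd (S.mul_mem (hu x') (ht a)) hs'
  refine ⟨u x' * (u x)⁻¹, S.mul_mem (hu _) (S.inv_mem (hu _)), (u y)⁻¹ * ((w c)⁻¹ * w c') * u y', ?_, by group⟩
  rw [w_inv, w_mul_w]
  exact S.mul_mem (S.mul_mem (S.inv_mem (hu _)) (ht _)) (hu _)

end group

section kill

variable [Finite F] {K : Type v} [Field K] [Fintype K]

/-- **The Steinberg representation is killed.** -/
theorem steinberg_kill (h2 : (2 : F) ≠ 0) {Q : QuadraticForm F (ι → F)} (hQ : Nondeg Q)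
    {H P : Subgroup (GL ι F)} (hH : IsMaximalIn (omegaGL (Q : (ι → F) → F)) H) (hPc : IsResidualCore H P)
    (h4 : Fintype.card K % 4 = 3) (h7 : 7 ≤ Fintype.card K) (hK : (Fintype.card K : F) ≠ 0)
    (hn : Fintype.card ι = Fintype.card K) (e : Soc P ≃* ProjectiveSpecialLinearGroup (Fin 2) K) : False := by
  classical
  have hC : Core P := core_of_residual hPc
  have hG : Good Q := Cfsg.Agent.H883.Bridge.good_of_card hQ (by omega)
  obtain ⟨ρ, hρ, hρe⟩ := l2_rep hC (by omega) (by omega) e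
  have hρP : ∀ g, ρ g ∈ P := fun g => by rw [← hρ]; exact ⟨g, rfl⟩
  let ρP : _root_.Matrix.SpecialLinearGroup (Fin 2) K →* P := ρ.codRestrict P hρP
  have hsurj : Function.Surjective ρP := by
    rintro ⟨y, hy⟩
    rw [← hρ] at hy
    obtain ⟨g, rfl⟩ := hy
    exact ⟨g, rfl⟩
  -- the fixed vector of `u(K)`
  obtain ⟨v0, hv0, hfix, huniq⟩ : ∃ v0 : ι → F, v0 ≠ 0 ∧ (∀ x : K, (ρ (u x) : Matrix ι ι F) *ᵥ v0 = v0) ∧
      ∀ w : ι → F, (∀ x : K, (ρ (u x) : Matrix ι ι F) *ᵥ w = w) → ∃ c : F, w = c • v0 := by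
    have hKk : (Fintype.card K : AlgebraicClosure F) ≠ 0 := by
      intro h
      apply hK
      apply (algebraMap F (AlgebraicClosure F)).injective
      rw [map_natCast, map_zero, h]
    obtain ⟨ψ, hψ⟩ := exists_prim (K := K) hKk
    have hspan := span_exti ρ (AlgebraicClosure F) (span_of_core hC hρ)
    have hfr : finrank (AlgebraicClosure F) (ι → AlgebraicClosure F) = Fintype.card K := by
      rw [Module.finrank_fintype_fun_eq_card, hn]
    have hR : exti ρ (AlgebraicClosure F) ≠ 1 := by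
      intro h
      rw [h] at hspan
      have h1 : Submodule.span (AlgebraicClosure F)
          (Set.range ((1 : _root_.Matrix.SpecialLinearGroup (Fin 2) K →* Module.End (AlgebraicClosure F) (ι → AlgebraicClosure F)))) ≤
          Submodule.span (AlgebraicClosure F) {1} := by
        refine Submodule.span_mono ?_
        rintro _ ⟨g, rfl⟩
        rfl
      rw [hspan] at h1
      have h3 := Submodule.finrank_mono h1
      rw [finrank_top, Module.finrank_linearMap, hfr] at h3
      have h5 := finrank_span_le_card (R := AlgebraicClosure F) ({1} : Set (Module.End (AlgebraicClosure F) (ι → AlgebraicClosure F)))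
      simp at h5
      nlinarith only [h7, h3, h5]
    have hE : finrank (AlgebraicClosure F) (LinearMap.range (H464.Sl2.E (exti ρ (AlgebraicClosure F)) ψ 0)) = 1 := by
      rcases dim_cases (exti ρ (AlgebraicClosure F)) hψ hKk hspan hR with ⟨h, -⟩ | ⟨-, h⟩
      · have h1 := H464.Sl2.finrank_eq (exti ρ (AlgebraicClosure F)) hψ hKk
        rw [Finset.sum_congr rfl fun b hb => h b (Finset.ne_of_mem_erase hb), Finset.sum_const,
          Finset.card_erase_of_mem (Finset.mem_univ _), Finset.card_univ, smul_eq_mul, mul_one, hfr] at h1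
        omega
      · rw [hfr] at h; omega
    exact exists_v0 ρ hK _ ψ hE
  -- isometries
  have hO : ∀ g, glEquiv ι F (ρ g) ∈ O Q := fun g =>
    E_le_O ((Cfsg.Agent.H883.Bridge.mem_omegaGL_iff hG _).1 (hH.1.le (hPc.le (hρP g))))
  have hpol : ∀ g x y, polar Q ((ρ g : Matrix ι ι F) *ᵥ x) ((ρ g : Matrix ι ι F) *ᵥ y) = polar Q x y := by
    intro g x y
    rw [← glEquiv_apply, ← glEquiv_apply]
    exact polar_map (hO g) x y
  have hvv : polar Q v0 v0 ≠ 0 := by
    intro h0
    apply hv0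
    refine hQ v0 fun y => ?_
    -- `polar v0 y = polar v0 (M0 y)`
    have h1 : ∀ x : K, polar Q v0 ((ρ (u x) : Matrix ι ι F) *ᵥ y) = polar Q v0 y := by
      intro x
      have := hpol (u x) v0 y
      rwa [hfix] at this
    have h3 : polar Q v0 (M0 ρ *ᵥ y) = polar Q v0 y := by
      unfold M0
      rw [Matrix.smul_mulVec, Matrix.sum_mulVec, QuadraticMap.polar_smul_right]
      have h5 : ∀ s : Finset K, polar Q v0 (∑ x ∈ s, (ρ (u x) : Matrix ι ι F) *ᵥ y) = s.card • polar Q v0 y := by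
        intro s
        induction s using Finset.induction_on with
        | empty => simp [QuadraticMap.polar_zero_right]
        | insert b s hb ih =>
          rw [Finset.sum_insert hb, QuadraticMap.polar_add_right, ih, h1, Finset.card_insert_of_notMem hb, succ_nsmul,
            add_comm]
      rw [h5, Finset.card_univ, nsmul_eq_mul, smul_eq_mul, ← mul_assoc, inv_mul_cancel₀ hK, one_mul]
    obtain ⟨c, hc⟩ := huniq (M0 ρ *ᵥ y) fun x => by rw [Matrix.mulVec_mulVec, u_mul_M0]
    rw [← h3, hc, QuadraticMap.polar_smul_right, h0, smul_zero]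
  have hmul : ∀ g h : _root_.Matrix.SpecialLinearGroup (Fin 2) K, ∀ v : ι → F,
      (ρ (g * h) : Matrix ι ι F) *ᵥ v = (ρ g : Matrix ι ι F) *ᵥ ((ρ h : Matrix ι ι F) *ᵥ v) := by
    intro g h v
    rw [map_mul, mulVec_mul]
  -- the torus
  have ht0 : ∀ a : Kˣ, ∃ c : F, (ρ (t a) : Matrix ι ι F) *ᵥ v0 = c • v0 := by
    intro a
    apply huniq
    intro x
    have h1 : u x * t a = t a * u ((a : K)⁻¹ ^ 2 * x) := by
      rw [t_mul_u, ← mul_assoc, ← mul_pow, mul_inv_cancel₀ a.ne_zero, one_pow, one_mul]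
    rw [← hmul, h1, hmul, hfix]
  have hts : ∀ a : Kˣ, ∀ c : F, (ρ (t a) : Matrix ι ι F) *ᵥ v0 = c • v0 → c = 1 ∨ c = -1 := by
    intro a c hc
    have h1 := hpol (t a) v0 v0
    rw [hc, QuadraticMap.polar_smul_left, QuadraticMap.polar_smul_right, smul_eq_mul, smul_eq_mul, ← mul_assoc] at h1
    have h3 : (c * c - 1) * polar Q v0 v0 = 0 := by linear_combination h1
    exact mul_self_eq_one_iff.1 (sub_eq_zero.1 ((mul_eq_zero.1 h3).resolve_right hvv))
  have hneg : ρ (t (-1)) = 1 := by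
    have hcen : (QuotientGroup.mk (t (-1)) : ProjectiveSpecialLinearGroup (Fin 2) K) = 1 := by
      rw [QuotientGroup.eq_one_iff, Subgroup.mem_center_iff]
      intro g
      exact (t_sq_central (by simp only [_root_.even_two, _root_.Even.neg_pow, _root_.one_pow]) g).symm
    have h1 := hρe (t (-1)) (hρP _)
    rw [hcen] at h1
    have h3 : toSoc P ⟨ρ (t (-1)), hρP _⟩ = toSoc P 1 := by
      rw [map_one]
      exact (MulEquiv.map_eq_one_iff e).1 h1
    obtain ⟨c, hc⟩ := exists_of_toSoc_eq h3.symm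
    have hc' : (ρ (t (-1)) : Matrix ι ι F) = (c : F) • (1 : Matrix ι ι F) := by
      rw [show (ρ (t (-1)) : Matrix ι ι F) = ((⟨ρ (t (-1)), hρP _⟩ : P) : GL ι F).1 from rfl, hc]
      simp only [_root_.OneMemClass.coe_one, _root_.Units.val_one]
    have h5 := hC.scalar_pow (hρP _) hc'
    have h6 : ρ (t (-1)) * ρ (t (-1)) = 1 := by
      rw [← map_mul, ← t_mul]
      simp [t_one]
    have h8 : (c : F) * c = 1 := by
      have h9 := congrArg (fun g : GL ι F => (g : Matrix ι ι F)) h6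
      simp only [Units.val_mul, Units.val_one, hc'] at h9
      rw [Matrix.smul_mul, Matrix.one_mul, smul_smul] at h9
      have hne : Nonempty ι := Fintype.card_pos_iff.1 (by omega)
      obtain ⟨i⟩ := hne
      have h10 := congrFun (congrFun h9 i) i
      simpa only [_root_.Matrix.smul_apply, _root_.Matrix.one_apply_eq, _root_.smul_eq_mul, _root_.mul_one] using h10
    have h9 : (c : F) = 1 := by
      obtain ⟨m, hm⟩ : ∃ m, Fintype.card ι = 2 * m + 1 := ⟨Fintype.card ι / 2, by omega⟩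
      rw [hm, pow_succ, pow_mul, pow_two, h8, one_pow, one_mul] at h5
      exact h5
    apply Units.ext
    rw [hc', h9, one_smul]
    rfl
  have htor : ∀ a : Kˣ, (ρ (t a) : Matrix ι ι F) *ᵥ v0 = v0 := by
    intro a
    obtain ⟨c, hc⟩ := ht0 a
    rcases hts a c hc with h | h
    · rw [hc, h, one_smul]
    · exfalso
      -- `a ^ m = ± 1`, `m` odd
      obtain ⟨m, hm⟩ : ∃ m, Fintype.card K = 4 * m + 3 := ⟨Fintype.card K / 4, by omega⟩
      have hpow : ∀ j : ℕ, (ρ (t (a ^ j)) : Matrix ι ι F) *ᵥ v0 = c ^ j • v0 := by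
        intro j
        induction j with
        | zero => rw [pow_zero, t_one, map_one, Units.val_one, Matrix.one_mulVec, pow_zero, one_smul]
        | succ j ih => rw [pow_succ, t_mul, hmul, hc, Matrix.mulVec_smul, ih, smul_smul, pow_succ, mul_comm]
      have ha : a ^ (2 * m + 1) = 1 ∨ a ^ (2 * m + 1) = -1 := by
        have h1 : (a ^ (2 * m + 1)) ^ 2 = 1 := by
          rw [← pow_mul, show (2 * m + 1) * 2 = Fintype.card Kˣ by rw [Fintype.card_units, hm]; omega, pow_card_eq_one]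
        rw [pow_two] at h1
        have h3 : ((a ^ (2 * m + 1) : Kˣ) : K) * ((a ^ (2 * m + 1) : Kˣ) : K) = 1 := by
          rw [← Units.val_mul, h1, Units.val_one]
        rcases mul_self_eq_one_iff.1 h3 with h | h
        · exact Or.inl (Units.ext h)
        · exact Or.inr (Units.ext (by rw [h]; rfl))
      have h1 := hpow (2 * m + 1)
      have h3 : (ρ (t (a ^ (2 * m + 1))) : Matrix ι ι F) *ᵥ v0 = v0 := by
        rcases ha with h | h
        · rw [h, t_one, map_one, Units.val_one, Matrix.one_mulVec]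
        · rw [h, hneg, Units.val_one, Matrix.one_mulVec]
      rw [h3, h, Odd.neg_one_pow ⟨m, rfl⟩, neg_one_smul] at h1
      have h5 : (2 : F) • v0 = 0 := by
        rw [two_smul]
        nth_rewrite 2 [h1]
        exact add_neg_cancel v0
      rcases smul_eq_zero.1 h5 with h6 | h6
      · exact h2 h6
      · exact hv0 h6
  -- the stabiliser of `v0`
  let K0 : Subgroup P :=
    { carrier := {g | ((g : GL ι F) : Matrix ι ι F) *ᵥ v0 = v0}
      one_mem' := by
        change ((1 : GL ι F) : Matrix ι ι F) *ᵥ v0 = v0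
        rw [Units.val_one, Matrix.one_mulVec]
      mul_mem' := by
        intro a b ha hb
        change ((a * b : GL ι F) : Matrix ι ι F) *ᵥ v0 = v0
        rw [mulVec_mul]
        change ((a : GL ι F) : Matrix ι ι F) *ᵥ v0 = v0 at ha
        change ((b : GL ι F) : Matrix ι ι F) *ᵥ v0 = v0 at hb
        rw [hb, ha]
      inv_mem' := by
        intro a ha
        change (((a : GL ι F)⁻¹ : GL ι F) : Matrix ι ι F) *ᵥ v0 = v0
        change ((a : GL ι F) : Matrix ι ι F) *ᵥ v0 = v0 at ha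
        conv_lhs => rw [← ha]
        exact inv_mulVec _ _ }
  have hK0 : ∀ g : P, g ∈ K0 ↔ ((g : GL ι F) : Matrix ι ι F) *ᵥ v0 = v0 := fun g => Iff.rfl
  let S : Subgroup (_root_.Matrix.SpecialLinearGroup (Fin 2) K) := K0.comap ρP
  have hSu : ∀ x, u x ∈ S := fun x => hfix x
  have hSt : ∀ a, t a ∈ S := fun a => htor a
  have hSw : w 1 ∉ S := by
    intro hw1
    have htop : ∀ g, g ∈ S := by
      intro g
      have hwc : ∀ c : Kˣ, w c ∈ S := fun c => by rw [← w_one_mul_t]; exact S.mul_mem hw1 (hSt c)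
      rcases bruhat g with ⟨x, a, rfl⟩ | ⟨x, c, y, rfl⟩
      · exact S.mul_mem (hSu x) (hSt a)
      · exact S.mul_mem (S.mul_mem (hSu x) (hwc c)) (hSu y)
    rcases hC.absIrred.1 (Submodule.span F {v0}) (by
      rintro _ ⟨g, hg, rfl⟩
      rw [← hρ] at hg
      obtain ⟨s, rfl⟩ := hg
      rintro _ ⟨x, hx, rfl⟩
      obtain ⟨c, rfl⟩ := Submodule.mem_span_singleton.1 hx
      change Matrix.toLin' (ρ s : Matrix ι ι F) (c • v0) ∈ _
      rw [map_smul, Matrix.toLin'_apply]
      have h1 : (ρ s : Matrix ι ι F) *ᵥ v0 = v0 := htop s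
      rw [h1]
      exact Submodule.smul_mem _ _ (Submodule.mem_span_singleton_self _)) with h | h
    · exact hv0 (Submodule.span_singleton_eq_bot.1 h)
    · have h1 := finrank_span_le_card (R := F) ({v0} : Set (ι → F))
      rw [h, finrank_top, Module.finrank_fintype_fun_eq_card] at h1
      simp only [_root_.Set.toFinset_singleton, _root_.Finset.card_singleton] at h1
      omega
  have hidx : K0.index = Fintype.card ι + 1 := by
    rw [hn, ← index_stab S hSu hSt hSw]
    exact (Subgroup.index_comap_of_surjective K0 hsurj).symm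
  have hdc : ∀ g ∉ K0, ∀ g' ∉ K0, ∃ k ∈ K0, ∃ k' ∈ K0, g' = k * g * k' := by
    intro g hg g' hg'
    obtain ⟨s, rfl⟩ := hsurj g
    obtain ⟨s', rfl⟩ := hsurj g'
    obtain ⟨k, hk, k', hk', e⟩ := dc_stab S hSu hSt s hg s' hg'
    exact ⟨ρP k, hk, ρP k', hk', by rw [e, map_mul, map_mul]⟩
  -- the Sylow subgroup
  have hr : (ringChar K).Prime := CharP.char_is_prime K _
  have hfr : Fact (ringChar K).Prime := ⟨hr⟩
  let uH : Multiplicative K →* _root_.Matrix.SpecialLinearGroup (Fin 2) K :=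
    { toFun := fun x => u x.toAdd
      map_one' := u_zero
      map_mul' := fun x y => u_add _ _ }
  let U : Subgroup P := (ρP.comp uH).range
  have hUmem : ∀ x : K, ρP (u x) ∈ U := fun x => ⟨Multiplicative.ofAdd x, rfl⟩
  have hUp : IsPGroup (ringChar K) U := by
    rintro ⟨_, ⟨x, rfl⟩⟩
    refine ⟨1, ?_⟩
    apply Subtype.ext
    change (ρP.comp uH x) ^ (ringChar K) ^ 1 = 1
    rw [pow_one, ← map_pow]
    have : x ^ ringChar K = 1 := by
      apply Multiplicative.toAdd.injective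
      change (ringChar K) • x.toAdd = 0
      rw [nsmul_eq_mul, ringChar.Nat.cast_ringChar, zero_mul]
    rw [this, map_one]
  have hUinj : Function.Injective (ρP.comp uH) := by
    rw [injective_iff_map_eq_one]
    intro x hx
    have h1 : ρ (u x.toAdd) = 1 := congrArg Subtype.val hx
    have h3 := hρe (u x.toAdd) (hρP _)
    have h5 : (⟨ρ (u x.toAdd), hρP _⟩ : P) = 1 := Subtype.ext h1
    rw [h5, map_one, map_one] at h3
    have h6 := h3.symm
    rw [QuotientGroup.eq_one_iff, ClassicalGeometry.PSL2Basic.mem_center_SL2_iff] at h6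
    have h8 : ((u x.toAdd : _root_.Matrix.SpecialLinearGroup (Fin 2) K) : Matrix (Fin 2) (Fin 2) K) 0 1 = 0 := by
      rcases h6 with h | h
      · rw [h]; simp
      · rw [h]; simp
    simpa only [_root_.Fin.isValue, _root_.Cfsg.Agent.H464.Sl2.u_coe, _root_.Matrix.of_apply, _root_.Matrix.cons_val', _root_.Matrix.cons_val_one, _root_.Matrix.cons_val_fin_one, _root_.Matrix.cons_val_zero, _root_.toAdd_eq_zero] using h8
  have hUcard : Nat.card U = Fintype.card K := by
    rw [← Nat.card_congr (MonoidHom.ofInjective hUinj).toEquiv, Nat.card_eq_fintype_card, Fintype.card_multiplicative]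
  have hUidx : ¬ ringChar K ∣ U.index := by
    intro hd
    have h1 : Nat.card P ∣ Nat.card (_root_.Matrix.SpecialLinearGroup (Fin 2) K) := Subgroup.card_dvd_of_surjective ρP hsurj
    rw [← U.card_mul_index, hUcard, ClassicalGeometry.PSL2Basic.card_SL2] at h1
    have h3 : U.index ∣ Fintype.card K ^ 2 - 1 := by
      have hpos : 0 < Fintype.card K := Fintype.card_pos
      first
        | exact Nat.dvd_of_mul_dvd_mul_left hpos h1
        | exact Nat.dvd_of_mul_dvd_mul_left hpos (by rwa [mul_comm (Fintype.card K ^ 2 - 1)] at h1)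
    have h5 : ringChar K ∣ Fintype.card K := by rw [← ringChar.spec, Nat.cast_card_eq_zero]
    have h6 := hd.trans h3
    have h8 : ringChar K ∣ Fintype.card K ^ 2 := dvd_pow h5 two_ne_zero
    have h9 : 1 ≤ Fintype.card K ^ 2 := Nat.one_le_pow _ _ Fintype.card_pos
    have h10 := (Nat.dvd_sub h8 h6)
    rw [Nat.sub_sub_self h9] at h10
    exact hr.one_lt.ne' (Nat.dvd_one.1 h10)
  have hl := lines_of_sylow (H := H) (hUp.toSylow hUidx) (v0 := v0)
    (by
      rintro _ ⟨x, rfl⟩
      exact hfix _)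
    (fun w' hw' => huniq w' fun x => hw' (ρP (u x)) (hUmem x))
    hPc.normal
  obtain ⟨⟨e'⟩, -, -⟩ := mat_main h2 hQ (by omega) hH hPc hidx hv0 (fun k hk => hk) hdc hl rfl
  have hcard := Nat.card_congr (e.symm.trans e').toEquiv
  have h1 := ClassicalGeometry.PSL2Basic.card_PSL2_odd (F := K) (Nat.odd_iff.2 (by omega))
  have : Nontrivial (Fin (Fintype.card ι + 1)) := by
    apply Fin.nontrivial_iff_two_le.2; omega
  have h3 := two_mul_nat_card_alternatingGroup (α := Fin (Fintype.card ι + 1))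
  rw [← hcard, mul_comm, h1, Nat.card_perm, Nat.card_eq_fintype_card, Fintype.card_fin, hn] at h3
  obtain ⟨m, hm⟩ : ∃ m, Fintype.card K = m + 2 := ⟨Fintype.card K - 2, by omega⟩
  rw [hm, Nat.factorial_succ, Nat.factorial_succ, Nat.factorial_succ] at h3
  have h5 : 5 ≤ m.factorial := le_trans (by omega) (Nat.self_le_factorial m)
  have h6 : (m + 2) ^ 2 - 1 = (m + 3) * (m + 1) := by
    have : (m + 2) ^ 2 = (m + 3) * (m + 1) + 1 := by ring
    omega
  rw [h6] at h3
  have h8 : (m + 2) * ((m + 3) * (m + 1)) * 1 = (m + 2) * ((m + 3) * (m + 1)) * m.factorial := by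
    rw [mul_one]; refine h3.trans ?_; ring
  have h9 := Nat.eq_of_mul_eq_mul_left (by (clear * -; positivity)) h8
  omega

end kill

end Cfsg.Agent.H882.Del
end
end
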